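/-
Power relations forced by the quadratic `X^2 - tX + 1` and by a palindromic quartic over a finite field.
-/
import Mathlib

set_option autoImplicit false

namespace CfsgLib.SpFourTwins

open Polynomial

variable {K : Type*} [Field K]

/-- The quadratic `X^2 - tX + 1`. -/
noncomputable def quad (t : K) : K[X] := X ^ 2 - C t * X + 1

lemma quad_map {L : Type*} [Field L] (φ : K →+* L) (t : K) : (quad t).map φ = quad (φ t) := by
  simp [quad]

lemma quad_monic (t : K) : (quad t).Monic := by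
  unfold quad
  monicity!

lemma quad_eq_mul {ρ t : K} (h : ρ ^ 2 - t * ρ + 1 = 0) : quad t = (X - C ρ) * (X - C (t - ρ)) := by
  have h1 : C ρ ^ 2 - C t * C ρ + 1 = (0 : K[X]) := by
    have := congrArg C h
    simpa using this
  simp only [quad, map_sub]
  linear_combination h1

lemma isRoot_inv {ρ t : K} (h : ρ ^ 2 - t * ρ + 1 = 0) : ρ ≠ 0 ∧ t - ρ = ρ⁻¹ := by
  have h0 : ρ ≠ 0 := by
    rintro rfl
    simp at h
  exact ⟨h0, eq_inv_of_mul_eq_one_left (by linear_combination -h)⟩

lemma ne_inv {ρ t : K} (h : ρ ^ 2 - t * ρ + 1 = 0) (h4 : t ^ 2 ≠ 4) : ρ ≠ t - ρ := by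
  intro he
  have ht : t = 2 * ρ := by linear_combination -he
  subst ht
  exact h4 (by linear_combination (-4 : K) * h)

/-- A power of a root determines the same power modulo the quadratic. -/
lemma quad_dvd_of_pow {L : Type*} [Field L] (φ : K →+* L) {t c : K} {ρ : L}
    (hρ : ρ ^ 2 - φ t * ρ + 1 = 0) (h4 : t ^ 2 ≠ 4) {m : ℕ} (hm : ρ ^ m = φ c) (hc : c * c = 1) :
    quad t ∣ X ^ m - C c := by
  rw [← map_dvd_map φ φ.injective (quad_monic t), quad_map, quad_eq_mul hρ]
  obtain ⟨h0, hi⟩ := isRoot_inv hρ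
  have h4' : φ t ^ 2 ≠ 4 := fun h => h4 (φ.injective (by rw [map_pow, h, map_ofNat]))
  refine IsCoprime.mul_dvd (isCoprime_X_sub_C_of_isUnit_sub ?_) ?_ ?_
  · exact isUnit_iff_ne_zero.2 (sub_ne_zero.2 (ne_inv hρ h4'))
  · rw [dvd_iff_isRoot]
    simp [hm]
  · rw [dvd_iff_isRoot]
    simp only [IsRoot.def, Polynomial.map_sub, Polynomial.map_pow, map_X, map_C, eval_sub, eval_pow, eval_X, eval_C]
    rw [hi, inv_pow, hm, sub_eq_zero]
    exact inv_eq_of_mul_eq_one_right (by rw [← map_mul, hc, map_one])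

variable {p : ℕ} [hp : Fact p.Prime] [CharP K p]

include hp in
/-- The `Q`-th power of a root is a root. -/
lemma root_pow_cases {t ρ : K} {e : ℕ} (hρ : ρ ^ 2 - t * ρ + 1 = 0) (ht : t ^ (p ^ e) = t) :
    ρ ^ (p ^ e) = ρ ∨ ρ ^ (p ^ e) = t - ρ := by
  have h := congrArg (iterateFrobenius K p e) hρ
  simp only [map_add, map_sub, map_mul, map_pow, map_one, map_zero, iterateFrobenius_def, ht] at h
  have : (ρ ^ (p ^ e) - ρ) * (ρ ^ (p ^ e) - (t - ρ)) = 0 := by linear_combination h - hρ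
  rcases mul_eq_zero.1 this with h' | h'
  · exact Or.inl (sub_eq_zero.1 h')
  · exact Or.inr (sub_eq_zero.1 h')

include hp in
lemma pow_root_cases {t ρ : K} {e : ℕ} (hρ : ρ ^ 2 - t * ρ + 1 = 0) (ht : t ^ (p ^ e) = t) :
    ρ ^ (p ^ e - 1) = 1 ∨ ρ ^ (p ^ e + 1) = 1 := by
  obtain ⟨h0, hi⟩ := isRoot_inv hρ
  have h1 : 1 ≤ p ^ e := Nat.one_le_pow _ _ hp.out.pos
  rcases root_pow_cases hρ ht with h | h
  · exact Or.inl (by rw [pow_sub₀ _ h0 h1, h, pow_one, mul_inv_cancel₀ h0])
  · exact Or.inr (by rw [pow_succ, h, hi, inv_mul_cancel₀ h0])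

include hp in
lemma quad_dvd_cases {t : K} {e : ℕ} (ht : t ^ (p ^ e) = t) (h4 : t ^ 2 ≠ 4) :
    quad t ∣ X ^ (p ^ e - 1) - 1 ∨ quad t ∣ X ^ (p ^ e + 1) - 1 := by
  haveI : CharP (AlgebraicClosure K) p := charP_of_injective_algebraMap (algebraMap K _).injective p
  set φ := algebraMap K (AlgebraicClosure K)
  obtain ⟨ρ, hρ⟩ := IsAlgClosed.exists_root (quad (φ t)) (by
    rw [degree_eq_natDegree (quad_monic _).ne_zero, show (quad (φ t)).natDegree = 2 by unfold quad; compute_degree!]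
    norm_num)
  replace hρ : ρ ^ 2 - φ t * ρ + 1 = 0 := by simpa [quad] using hρ
  have ht' : φ t ^ (p ^ e) = φ t := by rw [← map_pow, ht]
  rcases pow_root_cases hρ ht' with h | h
  · exact Or.inl (by simpa using quad_dvd_of_pow φ hρ h4 (c := 1) (by simpa using h) (one_mul _))
  · exact Or.inr (by simpa using quad_dvd_of_pow φ hρ h4 (c := 1) (by simpa using h) (one_mul _))

include hp in
lemma quad_dvd_half {t : K} {e : ℕ} (hp2 : p ≠ 2) (ht : t ^ (p ^ e) = t) (h4 : t ^ 2 ≠ 4) :
    ∃ m, (m = (p ^ e - 1) / 2 ∨ m = (p ^ e + 1) / 2) ∧ ∃ c : K, c * c = 1 ∧ quad t ∣ X ^ m - C c := by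
  haveI : CharP (AlgebraicClosure K) p := charP_of_injective_algebraMap (algebraMap K _).injective p
  set φ := algebraMap K (AlgebraicClosure K)
  obtain ⟨ρ, hρ⟩ := IsAlgClosed.exists_root (quad (φ t)) (by
    rw [degree_eq_natDegree (quad_monic _).ne_zero, show (quad (φ t)).natDegree = 2 by unfold quad; compute_degree!]
    norm_num)
  replace hρ : ρ ^ 2 - φ t * ρ + 1 = 0 := by simpa [quad] using hρ
  have ht' : φ t ^ (p ^ e) = φ t := by rw [← map_pow, ht]
  obtain ⟨r, hr⟩ : Odd (p ^ e) := (hp.out.odd_of_ne_two hp2).pow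
  have key : ∀ m, ρ ^ (m * 2) = 1 → ∃ c : K, c * c = 1 ∧ quad t ∣ X ^ m - C c := by
    intro m hm
    rw [pow_mul, sq_eq_one_iff] at hm
    rcases hm with hm | hm
    · exact ⟨1, one_mul _, quad_dvd_of_pow φ hρ h4 (by simpa using hm) (one_mul _)⟩
    · exact ⟨-1, by ring, quad_dvd_of_pow φ hρ h4 (by simpa using hm) (by ring)⟩
  rcases pow_root_cases hρ ht' with h | h
  · exact ⟨_, Or.inl rfl, key _ (by rwa [show (p ^ e - 1) / 2 * 2 = p ^ e - 1 by omega])⟩
  · exact ⟨_, Or.inr rfl, key _ (by rwa [show (p ^ e + 1) / 2 * 2 = p ^ e + 1 by omega])⟩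

omit [CharP K p] in
lemma quad_isCoprime {t t' : K} (h : t ≠ t') : IsCoprime (quad t) (quad t') := by
  have hd : (quad t) - quad t' = C (t' - t) * X := by
    simp only [quad, map_sub]
    ring
  have hne : t' - t ≠ 0 := sub_ne_zero.2 h.symm
  refine ⟨1 - (X - C t) * (C (t' - t)⁻¹), (X - C t) * C (t' - t)⁻¹, ?_⟩
  have hinv : C (t' - t)⁻¹ * C (t' - t) = (1 : K[X]) := by rw [← C_mul, inv_mul_cancel₀ hne, C_1]
  calc (1 - (X - C t) * C (t' - t)⁻¹) * quad t + (X - C t) * C (t' - t)⁻¹ * quad t'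
      = quad t - (X - C t) * C (t' - t)⁻¹ * (quad t - quad t') := by ring
    _ = quad t - (X - C t) * X * (C (t' - t)⁻¹ * C (t' - t)) := by rw [hd]; ring
    _ = 1 := by rw [hinv]; simp only [quad]; ring

/-- The palindromic quartic with coefficients `a`, `d`. -/
noncomputable def quartic (a d : K) : K[X] :=
  X ^ 4 - C a * X ^ 3 + C (d + 2) * X ^ 2 - C a * X + 1

omit [CharP K p] in
lemma quartic_eq {t t' a d : K} (ha : t + t' = a) (hd : t * t' = d) : quartic a d = quad t * quad t' := by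
  subst ha hd
  simp only [quartic, quad, map_add, map_mul, map_ofNat]
  ring

omit [CharP K p] in
lemma quartic_map {L : Type*} [Field L] (φ : K →+* L) (a d : K) :
    (quartic a d).map φ = quartic (φ a) (φ d) := by
  simp [quartic, map_ofNat]

omit [CharP K p] in
lemma quartic_monic (a d : K) : (quartic a d).Monic := by
  unfold quartic
  monicity!

lemma pow_sub_one_dvd {R : Type*} [CommRing R] (x : R) {m N : ℕ} (h : m ∣ N) : x ^ m - 1 ∣ x ^ N - 1 := by
  obtain ⟨k, rfl⟩ := h
  rw [pow_mul]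
  exact sub_one_dvd_pow_sub_one _ _

section Finite

variable {F : Type*} [Field F] [Fintype F] [CharP F p]

include hp in
/-- The orders allowed by a palindromic quartic over a field with `q` elements. -/
lemma quartic_cases {a d : F} {e : ℕ} (hq : Fintype.card F = p ^ e) :
    ∃ N : ℕ, ∃ c : F, c * c = 1 ∧ quartic a d ∣ X ^ N - C c ∧
      (N ∣ p ^ 2 ∧ p ≤ 3 ∨ N ∣ p * (p ^ e - 1) ∨ N ∣ p * (p ^ e + 1) ∨
        (p = 2 ∧ (N ∣ (p ^ e) ^ 2 - 1 ∨ N ∣ (p ^ e) ^ 2 + 1)) ∨
        (p ≠ 2 ∧ (N ∣ ((p ^ e) ^ 2 - 1) / 2 ∨ N ∣ ((p ^ e) ^ 2 + 1) / 2))) := by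
  classical
  set q := p ^ e with hqdef
  have hP := hp.out
  have h1q : 1 < q := by rw [← hq]; exact Fintype.one_lt_card
  have hfix : ∀ x : F, x ^ q = x := fun x => by rw [← hq]; exact FiniteField.pow_card x
  have hmul : (q - 1) * (q + 1) = q ^ 2 - 1 := by rw [mul_comm, ← Nat.sq_sub_sq, one_pow]
  -- the exponent attached to one quadratic
  have one : ∀ t : F, ∃ m, (m = q - 1 ∨ m = q + 1 ∨ (m = p * 2 / (if p = 2 then 2 else 1))) ∧ quad t ∣ X ^ m - 1 := by
    intro t
    by_cases h4 : t ^ 2 = 4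
    · refine ⟨_, Or.inr (Or.inr rfl), ?_⟩
      obtain ⟨ε, hε2, hεt⟩ : ∃ ε : F, ε * ε = 1 ∧ t = 2 * ε := by
        by_cases h2 : p = 2
        · have h20 : (2 : F) = 0 := by
            have := CharP.cast_eq_zero F p
            rw [h2] at this
            exact_mod_cast this
          refine ⟨1, one_mul _, ?_⟩
          have : t = 0 := by
            rw [show (4 : F) = 2 * 2 by norm_num, h20, mul_zero] at h4
            simpa using h4
          rw [this, h20, zero_mul]
        · have h20 : (2 : F) ≠ 0 := by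
            intro h
            have : p ∣ 2 := (CharP.cast_eq_zero_iff F p 2).1 (by exact_mod_cast h)
            exact h2 ((Nat.prime_dvd_prime_iff_eq hP Nat.prime_two).1 this)
          exact ⟨t / 2, by field_simp; linear_combination h4, by field_simp⟩
      have hsq : quad t = (X - C ε) ^ 2 := by
        have h1 : C ε * C ε = (1 : F[X]) := by rw [← C_mul, hε2, C_1]
        subst hεt
        simp only [quad, map_mul, map_ofNat]
        linear_combination -h1
      have hd : quad t ∣ X ^ p - C (ε ^ p) := by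
        rw [hsq, C_pow, ← sub_pow_char]
        exact pow_dvd_pow _ hP.two_le
      have hεp : C (ε ^ p) * C (ε ^ p) = (1 : F[X]) := by rw [← C_mul, ← mul_pow, hε2, one_pow, C_1]
      split_ifs with h2
      · subst h2
        have h1 : ε ^ 2 = 1 := by rw [sq, hε2]
        simpa [h1] using hd
      · have : (X : F[X]) ^ (p * 2 / 1) - 1 = (X ^ p - C (ε ^ p)) * (X ^ p + C (ε ^ p)) := by
          rw [Nat.div_one, pow_mul]
          linear_combination hεp
        rw [this]
        exact dvd_mul_of_dvd_left hd _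
    · rcases quad_dvd_cases (e := e) (hfix t) h4 with h | h
      · exact ⟨_, Or.inl rfl, h⟩
      · exact ⟨_, Or.inr (Or.inl rfl), h⟩
  by_cases hroot : ∃ t : F, t ^ 2 - a * t + d = 0
  · obtain ⟨t, ht⟩ := hroot
    have hfac : quartic a d = quad t * quad (a - t) := quartic_eq (by ring) (by linear_combination -ht)
    by_cases hne : t = a - t
    · -- double root
      rw [← hne] at hfac
      by_cases h4 : t ^ 2 = 4
      · obtain ⟨ε, hε2, hsq⟩ : ∃ ε : F, ε * ε = 1 ∧ quad t = (X - C ε) ^ 2 := by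
          by_cases h20 : (2 : F) = 0
          · have ht0 : t = 0 := by
              rw [show (4 : F) = 2 * 2 by norm_num, h20, mul_zero] at h4
              simpa using h4
            refine ⟨1, one_mul _, ?_⟩
            have h20' : (2 : F[X]) = 0 := by rw [← map_ofNat C, h20, C_0]
            subst ht0
            simp only [quad, C_0, C_1]
            linear_combination X * h20'
          · refine ⟨t / 2, by field_simp; linear_combination h4, ?_⟩
            have ht2 : t = 2 * (t / 2) := by field_simp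
            have h1 : C (t / 2) * C (t / 2) = (1 : F[X]) := by
              rw [← C_mul, show t / 2 * (t / 2) = (1 : F) by field_simp; linear_combination h4, C_1]
            simp only [quad]
            rw [show C t = 2 * C (t / 2) by rw [← map_ofNat C, ← C_mul, ← ht2]]
            linear_combination -h1
        have key : ∀ r, 4 ≤ p ^ r → quartic a d ∣ X ^ (p ^ r) - C (ε ^ (p ^ r)) := fun r hr => by
          rw [hfac, hsq, ← pow_add, C_pow, ← sub_pow_char_pow]
          exact pow_dvd_pow _ hr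
        rcases le_or_gt p 3 with h3 | h3
        · refine ⟨p ^ 2, ε ^ (p ^ 2), by rw [← mul_pow, hε2, one_pow], key 2 ?_, Or.inl ⟨dvd_rfl, h3⟩⟩
          nlinarith [hP.two_le]
        · refine ⟨p, ε ^ p, by rw [← mul_pow, hε2, one_pow], ?_, Or.inr (Or.inl (dvd_mul_right _ _))⟩
          simpa using key 1 (by rw [pow_one]; omega)
      · have key : ∀ m, quad t ∣ X ^ m - 1 → quartic a d ∣ X ^ (p * m) - C (1 : F) := fun m hm => by
          rw [hfac, ← sq, C_1, mul_comm, pow_mul, ← one_pow (M := F[X]) p, ← sub_pow_char]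
          exact (pow_dvd_pow_of_dvd hm 2).trans (pow_dvd_pow _ hP.two_le)
        rcases quad_dvd_cases (e := e) (hfix t) h4 with h | h
        · exact ⟨_, 1, one_mul _, key _ h, Or.inr (Or.inl dvd_rfl)⟩
        · exact ⟨_, 1, one_mul _, key _ h, Or.inr (Or.inr (Or.inl dvd_rfl))⟩
    · -- two different roots
      obtain ⟨m₁, hm₁, hd₁⟩ := one t
      obtain ⟨m₂, hm₂, hd₂⟩ := one (a - t)
      have key : ∀ N, m₁ ∣ N → m₂ ∣ N → quartic a d ∣ X ^ N - C (1 : F) := fun N h₁ h₂ => by
        rw [hfac, C_1]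
        exact (quad_isCoprime hne).mul_dvd (hd₁.trans (pow_sub_one_dvd _ h₁)) (hd₂.trans (pow_sub_one_dvd _ h₂))
      by_cases h2 : p = 2
      · rw [if_pos h2, Nat.mul_div_cancel _ (by norm_num)] at hm₁ hm₂
        rcases hm₁ with e₁ | e₁ | e₁ <;> rcases hm₂ with e₂ | e₂ | e₂ <;> rw [e₁, e₂] at key
        all_goals first
          | exact ⟨q ^ 2 - 1, 1, one_mul _, key _ (hmul ▸ dvd_mul_right _ _) (hmul ▸ dvd_mul_right _ _),
              Or.inr (Or.inr (Or.inr (Or.inl ⟨h2, Or.inl dvd_rfl⟩)))⟩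
          | exact ⟨q ^ 2 - 1, 1, one_mul _, key _ (hmul ▸ dvd_mul_left _ _) (hmul ▸ dvd_mul_left _ _),
              Or.inr (Or.inr (Or.inr (Or.inl ⟨h2, Or.inl dvd_rfl⟩)))⟩
          | exact ⟨q ^ 2 - 1, 1, one_mul _, key _ (hmul ▸ dvd_mul_right _ _) (hmul ▸ dvd_mul_left _ _),
              Or.inr (Or.inr (Or.inr (Or.inl ⟨h2, Or.inl dvd_rfl⟩)))⟩
          | exact ⟨q ^ 2 - 1, 1, one_mul _, key _ (hmul ▸ dvd_mul_left _ _) (hmul ▸ dvd_mul_right _ _),
              Or.inr (Or.inr (Or.inr (Or.inl ⟨h2, Or.inl dvd_rfl⟩)))⟩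
          | exact ⟨p * (q - 1), 1, one_mul _, key _ (dvd_mul_right _ _) (dvd_mul_right _ _),
              Or.inr (Or.inl dvd_rfl)⟩
          | exact ⟨p * (q - 1), 1, one_mul _, key _ (dvd_mul_left _ _) (dvd_mul_right _ _),
              Or.inr (Or.inl dvd_rfl)⟩
          | exact ⟨p * (q - 1), 1, one_mul _, key _ (dvd_mul_right _ _) (dvd_mul_left _ _),
              Or.inr (Or.inl dvd_rfl)⟩
          | exact ⟨p * (q + 1), 1, one_mul _, key _ (dvd_mul_left _ _) (dvd_mul_right _ _),
              Or.inr (Or.inr (Or.inl dvd_rfl))⟩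
          | exact ⟨p * (q + 1), 1, one_mul _, key _ (dvd_mul_right _ _) (dvd_mul_left _ _),
              Or.inr (Or.inr (Or.inl dvd_rfl))⟩
      · rw [if_neg h2, Nat.div_one] at hm₁ hm₂
        have hodd : Odd q := (hP.odd_of_ne_two h2).pow
        obtain ⟨r, hr⟩ := hodd
        have hA : (q - 1) ∣ (q ^ 2 - 1) / 2 := ⟨r + 1, by
          rw [← hmul, hr, show 2 * r + 1 + 1 = 2 * (r + 1) by ring, mul_left_comm,
            Nat.mul_div_cancel_left _ (by norm_num)]⟩
        have hB : (q + 1) ∣ (q ^ 2 - 1) / 2 := ⟨r, by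
          rw [← hmul, hr, show 2 * r + 1 - 1 = 2 * r by omega, mul_assoc,
            Nat.mul_div_cancel_left _ (by norm_num), mul_comm]⟩
        have hC : p * 2 ∣ p * (q - 1) := mul_dvd_mul_left _ ⟨r, by omega⟩
        have hD : p * 2 ∣ p * (q + 1) := mul_dvd_mul_left _ ⟨r + 1, by omega⟩
        rcases hm₁ with e₁ | e₁ | e₁ <;> rcases hm₂ with e₂ | e₂ | e₂ <;> rw [e₁, e₂] at key
        all_goals first
          | exact ⟨(q ^ 2 - 1) / 2, 1, one_mul _, key _ hA hA, Or.inr (Or.inr (Or.inr (Or.inr ⟨h2, Or.inl dvd_rfl⟩)))⟩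
          | exact ⟨(q ^ 2 - 1) / 2, 1, one_mul _, key _ hA hB, Or.inr (Or.inr (Or.inr (Or.inr ⟨h2, Or.inl dvd_rfl⟩)))⟩
          | exact ⟨(q ^ 2 - 1) / 2, 1, one_mul _, key _ hB hA, Or.inr (Or.inr (Or.inr (Or.inr ⟨h2, Or.inl dvd_rfl⟩)))⟩
          | exact ⟨(q ^ 2 - 1) / 2, 1, one_mul _, key _ hB hB, Or.inr (Or.inr (Or.inr (Or.inr ⟨h2, Or.inl dvd_rfl⟩)))⟩
          | exact ⟨p * (q - 1), 1, one_mul _, key _ (dvd_mul_left _ _) hC, Or.inr (Or.inl dvd_rfl)⟩
          | exact ⟨p * (q - 1), 1, one_mul _, key _ hC (dvd_mul_left _ _), Or.inr (Or.inl dvd_rfl)⟩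
          | exact ⟨p * (q - 1), 1, one_mul _, key _ hC hC, Or.inr (Or.inl dvd_rfl)⟩
          | exact ⟨p * (q + 1), 1, one_mul _, key _ (dvd_mul_left _ _) hD, Or.inr (Or.inr (Or.inl dvd_rfl))⟩
          | exact ⟨p * (q + 1), 1, one_mul _, key _ hD (dvd_mul_left _ _), Or.inr (Or.inr (Or.inl dvd_rfl))⟩
  · -- irreducible: two conjugate roots in the closure
    haveI : CharP (AlgebraicClosure F) p := charP_of_injective_algebraMap (algebraMap F _).injective p
    set φ := algebraMap F (AlgebraicClosure F) with hφ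
    set σ := iterateFrobenius (AlgebraicClosure F) p e with hσ
    have hσv : ∀ x, σ x = x ^ q := fun x => iterateFrobenius_def ..
    have hσF : ∀ x : F, σ (φ x) = φ x := fun x => by rw [hσv, ← map_pow, hfix]
    obtain ⟨t, ht⟩ : ∃ t : AlgebraicClosure F, t ^ 2 - φ a * t + φ d = 0 := by
      obtain ⟨t, ht⟩ := IsAlgClosed.exists_root (X ^ 2 - C (φ a) * X + C (φ d) : (AlgebraicClosure F)[X]) (by
        rw [show (X ^ 2 - C (φ a) * X + C (φ d) : (AlgebraicClosure F)[X]).degree = 2 by compute_degree!]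
        norm_num)
      exact ⟨t, by simpa using ht⟩
    have htF : ∀ x : F, φ x ≠ t := fun x hx => hroot ⟨x, φ.injective (by
      rw [map_add, map_sub, map_mul, map_pow, map_zero, hx, ht])⟩
    have htq : σ t ≠ t := by
      intro h
      rw [hσv] at h
      have hs : (X ^ q - X : (AlgebraicClosure F)[X]).roots = (X ^ q - X : F[X]).roots.map φ := by
        have hmap : (X ^ q - X : F[X]).map φ = X ^ q - X := by
          rw [Polynomial.map_sub, Polynomial.map_pow, map_X]
        rw [← hmap]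
        refine (Polynomial.roots_map_of_injective_of_card_eq_natDegree φ.injective ?_).symm
        rw [← hq, FiniteField.roots_X_pow_card_sub_X, FiniteField.X_pow_card_sub_X_natDegree_eq F Fintype.one_lt_card]
        rfl
      have hmem : t ∈ (X ^ q - X : (AlgebraicClosure F)[X]).roots := by
        rw [mem_roots (FiniteField.X_pow_card_sub_X_ne_zero _ h1q)]
        simp [h]
      rw [hs, Multiset.mem_map] at hmem
      obtain ⟨x, -, hx⟩ := hmem
      exact htF x hx
    have hconj : σ t = φ a - t := by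
      have h := congrArg σ ht
      simp only [map_add, map_sub, map_mul, map_pow, map_zero, hσF] at h
      have : (σ t - t) * (σ t - (φ a - t)) = 0 := by linear_combination h - ht
      exact sub_eq_zero.1 ((mul_eq_zero.1 this).resolve_left (sub_ne_zero.2 htq))
    have htt : σ (σ t) = t := by rw [hconj, map_sub, hσF, hconj]; ring
    have htQ : t ^ (p ^ (e * 2)) = t := by
      rw [pow_mul, ← hqdef, sq, pow_mul, ← hσv, ← hσv]
      exact htt
    have h4 : t ^ 2 ≠ 4 := by
      intro h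
      have h0 : (t - 2) * (t + 2) = 0 := by linear_combination h
      rcases mul_eq_zero.1 h0 with h' | h'
      · exact htF 2 (by rw [map_ofNat]; linear_combination -h')
      · exact htF (-2) (by rw [map_neg, map_ofNat]; linear_combination -h')
    have hQ : p ^ (e * 2) = q ^ 2 := by rw [hqdef, pow_mul]
    have htne : t ≠ σ t := Ne.symm htq
    have hfac : (quartic a d).map φ = quad t * quad (σ t) := by
      rw [quartic_map]
      exact quartic_eq (by rw [hconj]; ring) (by rw [hconj]; linear_combination -ht)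
    have key : ∀ (N : ℕ) (c : F), quad t ∣ X ^ N - C (φ c) → quartic a d ∣ X ^ N - C c := by
      intro N c h
      rw [← map_dvd_map φ φ.injective (quartic_monic a d), hfac]
      have h' : quad (σ t) ∣ X ^ N - C (φ c) := by
        have := Polynomial.map_dvd σ h
        rwa [quad_map, Polynomial.map_sub, Polynomial.map_pow, map_X, map_C, hσF] at this
      simpa using (quad_isCoprime htne).mul_dvd h h'
    by_cases h2 : p = 2
    · rcases quad_dvd_cases (e := e * 2) htQ h4 with h | h <;> rw [hQ] at h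
      · exact ⟨_, 1, one_mul _, key _ 1 (by simpa using h), Or.inr (Or.inr (Or.inr (Or.inl ⟨h2, Or.inl dvd_rfl⟩)))⟩
      · exact ⟨_, 1, one_mul _, key _ 1 (by simpa using h), Or.inr (Or.inr (Or.inr (Or.inl ⟨h2, Or.inr dvd_rfl⟩)))⟩
    · obtain ⟨m, hm, c, hc, hdvd⟩ := quad_dvd_half (e := e * 2) h2 htQ h4
      obtain ⟨c', hc', rfl⟩ : ∃ c' : F, c' * c' = 1 ∧ φ c' = c := by
        rcases mul_self_eq_one_iff.1 hc with rfl | rfl
        · exact ⟨1, one_mul _, map_one _⟩
        · exact ⟨-1, by ring, by rw [map_neg, map_one]⟩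
      rw [hQ] at hm
      refine ⟨m, c', hc', key _ _ hdvd, Or.inr (Or.inr (Or.inr (Or.inr ⟨h2, ?_⟩)))⟩
      rcases hm with rfl | rfl
      · exact Or.inl dvd_rfl
      · exact Or.inr dvd_rfl

end Finite

end CfsgLib.SpFourTwins
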