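/-
The element orders of PSp(4, q), up to divisibility.
-/
import Cfsg.Agent.Lib.Spectrum.SpFourTwins.Poly
import Cfsg.Agent.Lib.KnownSimple.SpSpectrum
import Cfsg.Agent.Lib.KnownSimple.SpectrumPowers

set_option autoImplicit false

namespace CfsgLib.SpFourTwins

open Matrix Polynomial CfsgLib.KnownSimple CfsgLib.Classical

/-- The numbers of which the element orders of `PSp(4, q)` are the divisors, `q` a power of `p`. -/
def Adm (p q n : ℕ) : Prop :=
  n ∣ p ^ 2 ∧ p ≤ 3 ∨ n ∣ p * (q - 1) ∨ n ∣ p * (q + 1) ∨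
    (p = 2 ∧ (n ∣ q ^ 2 - 1 ∨ n ∣ q ^ 2 + 1)) ∨
    (p ≠ 2 ∧ (n ∣ (q ^ 2 - 1) / 2 ∨ n ∣ (q ^ 2 + 1) / 2))

lemma Adm.mono {p q m n : ℕ} (h : Adm p q n) (hmn : m ∣ n) : Adm p q m := by
  rcases h with ⟨h, h'⟩ | h | h | ⟨h', h | h⟩ | ⟨h', h | h⟩
  · exact Or.inl ⟨hmn.trans h, h'⟩
  · exact Or.inr (Or.inl (hmn.trans h))
  · exact Or.inr (Or.inr (Or.inl (hmn.trans h)))
  · exact Or.inr (Or.inr (Or.inr (Or.inl ⟨h', Or.inl (hmn.trans h)⟩)))
  · exact Or.inr (Or.inr (Or.inr (Or.inl ⟨h', Or.inr (hmn.trans h)⟩)))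
  · exact Or.inr (Or.inr (Or.inr (Or.inr ⟨h', Or.inl (hmn.trans h)⟩)))
  · exact Or.inr (Or.inr (Or.inr (Or.inr ⟨h', Or.inr (hmn.trans h)⟩)))

variable {F : Type*} [Field F]

/-- A self-adjoint matrix for the form of `Sp₄` satisfies a quadratic. -/
lemma selfAdjoint_quadratic (M : Matrix (Fin 2 ⊕ Fin 2) (Fin 2 ⊕ Fin 2) F) (h : spAdj M = M)
    (h01 : M (Sum.inl 0) (Sum.inr 0) = 0 ∧ M (Sum.inl 1) (Sum.inr 1) = 0 ∧
      M (Sum.inr 0) (Sum.inl 0) = 0 ∧ M (Sum.inr 1) (Sum.inl 1) = 0) :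
    M * M - (M (Sum.inl 0) (Sum.inl 0) + M (Sum.inl 1) (Sum.inl 1)) • M +
      (M (Sum.inl 0) (Sum.inl 0) * M (Sum.inl 1) (Sum.inl 1) - M (Sum.inl 0) (Sum.inl 1) * M (Sum.inl 1) (Sum.inl 0) +
        M (Sum.inl 0) (Sum.inr 1) * M (Sum.inr 0) (Sum.inl 1)) • (1 : Matrix _ _ F) = 0 := by
  obtain ⟨z1, z2, z3, z4⟩ := h01
  have e := fun i j => congrFun (congrFun h i) j
  have a00 := e (Sum.inr 0) (Sum.inr 0)
  have a01 := e (Sum.inr 0) (Sum.inr 1)
  have a10 := e (Sum.inr 1) (Sum.inr 0)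
  have a11 := e (Sum.inr 1) (Sum.inr 1)
  have b01 := e (Sum.inl 1) (Sum.inr 0)
  have c01 := e (Sum.inr 1) (Sum.inl 0)
  simp [spAdj, Matrix.J, Matrix.mul_apply, Fintype.sum_sum_type, Fin.sum_univ_two] at a00 a01 a10 a11 b01 c01
  ext i j
  rcases i with i | i <;> rcases j with j | j <;> fin_cases i <;> fin_cases j <;>
    simp [Matrix.mul_apply, Fintype.sum_sum_type, Fin.sum_univ_two, z1, z2, z3, z4, ← a00, ← a01, ← a10, ← a11,
      ← b01, ← c01] <;> ring

lemma selfAdjoint_diag {A : Matrix (Fin 2 ⊕ Fin 2) (Fin 2 ⊕ Fin 2) F} :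
    let M := A + spAdj A
    M (Sum.inl 0) (Sum.inr 0) = 0 ∧ M (Sum.inl 1) (Sum.inr 1) = 0 ∧
      M (Sum.inr 0) (Sum.inl 0) = 0 ∧ M (Sum.inr 1) (Sum.inl 1) = 0 := by
  refine ⟨?_, ?_, ?_, ?_⟩ <;>
    simp [spAdj, Matrix.J, Matrix.mul_apply, Fintype.sum_sum_type, Fin.sum_univ_two]

/-- An element of `Sp₄` satisfies a palindromic quartic. -/
lemma aeval_quartic (g : symplecticGroup (Fin 2) F) : ∃ a d : F, aeval g.1 (quartic a d) = 0 := by
  set A := g.1 with hA
  set B := spAdj A with hB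
  have hBA : B * A = 1 := mem_sp_iff_spAdj.1 g.2
  have hAB : A * B = 1 := mul_eq_one_comm.1 hBA
  have hT : spAdj (A + B) = A + B := by rw [spAdj_add, hB, spAdj_spAdj, add_comm]
  have hq := selfAdjoint_quadratic (A + B) hT selfAdjoint_diag
  generalize (A + B) (Sum.inl 0) (Sum.inl 0) + (A + B) (Sum.inl 1) (Sum.inl 1) = a at hq
  revert hq
  generalize (A + B) (Sum.inl 0) (Sum.inl 0) * (A + B) (Sum.inl 1) (Sum.inl 1) -
    (A + B) (Sum.inl 0) (Sum.inl 1) * (A + B) (Sum.inl 1) (Sum.inl 0) +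
      (A + B) (Sum.inl 0) (Sum.inr 1) * (A + B) (Sum.inr 0) (Sum.inl 1) = d
  intro hq
  refine ⟨a, d, ?_⟩
  have hA2 : A * (A + B) = A * A + 1 := by rw [mul_add, hAB]
  have hc : (A + B) * A = A * (A + B) := by rw [add_mul, mul_add, hBA, hAB]
  have key : A * A * ((A + B) * (A + B)) = (A * A + 1) * (A * A + 1) := by
    calc A * A * ((A + B) * (A + B)) = A * (A * (A + B)) * (A + B) := by simp only [mul_assoc]
      _ = A * ((A + B) * A) * (A + B) := by rw [hc]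
      _ = A * (A + B) * (A * (A + B)) := by simp only [mul_assoc]
      _ = _ := by rw [hA2]
  have h0 := congrArg (fun X => A * A * X) hq
  rw [mul_add, mul_sub, mul_smul_comm, mul_smul_comm, mul_one, mul_zero] at h0
  rw [key, show A * A * (A + B) = A * (A * A + 1) by rw [mul_assoc, hA2]] at h0
  rw [quartic]
  simp only [map_add, map_sub, map_mul, map_pow, aeval_X, aeval_C, map_one, Algebra.algebraMap_eq_smul_one,
    smul_mul_assoc, one_mul, map_ofNat]
  rw [← h0]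
  simp only [pow_succ, pow_zero, one_mul, mul_add, add_mul, mul_assoc, mul_one, smul_add, add_smul, two_mul,
    two_smul, smul_mul_assoc]
  module

variable {p : ℕ} [hp : Fact p.Prime] [CharP F p] [Fintype F]

include hp in
/-- Every element order of `PSp(4, q)` is admissible. -/
theorem adm_orderOf {e : ℕ} (hq : Fintype.card F = p ^ e) (y : Cfsg.PSp 2 F) :
    Adm p (Fintype.card F) (orderOf y) := by
  obtain ⟨g, rfl⟩ := QuotientGroup.mk'_surjective _ y
  change Adm p _ (orderOf (spMk g))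
  obtain ⟨a, d, h⟩ := aeval_quartic g
  obtain ⟨N, c, hc, hdvd, hN⟩ := quartic_cases (p := p) (a := a) (d := d) hq
  have hpow : spMk g ^ N = 1 := by
    rw [spMk_pow_eq_one_iff]
    have h' : aeval g.1 (X ^ N - C c) = 0 := by
      obtain ⟨r, hr⟩ := hdvd
      rw [hr, map_mul, h, zero_mul]
    rw [map_sub, map_pow, aeval_X, aeval_C, sub_eq_zero] at h'
    rcases mul_self_eq_one_iff.1 hc with rfl | rfl
    · exact Or.inl (by rw [h', map_one])
    · exact Or.inr (by rw [h', map_neg, map_one])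
  rw [hq]
  exact Adm.mono hN (orderOf_dvd_of_pow_eq_one hpow)

include hp in
/-- Every admissible number divides an element order of `PSp(4, q)`. -/
theorem exists_of_adm {e : ℕ} (hq : Fintype.card F = p ^ e) {n : ℕ} (hn : Adm p (Fintype.card F) n) :
    ∃ y : Cfsg.PSp 2 F, n ∣ orderOf y := by
  classical
  have hP := hp.out
  set q := Fintype.card F with hqq
  have he : e ≠ 0 := by
    rintro rfl
    have := Fintype.one_lt_card (α := F)
    simp [← hqq, hq] at this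
  have hinj : p = 2 → ∀ g : symplecticGroup (Fin 2) F, orderOf (spMk g) = orderOf g := by
    intro h2 g
    refine Nat.dvd_antisymm (orderOf_map_dvd _ _) (orderOf_dvd_of_pow_eq_one ?_)
    have h20 : (2 : F) = 0 := by
      have := CharP.cast_eq_zero F p
      rw [h2] at this
      exact_mod_cast this
    have hneg : (-1 : Matrix (Fin 2 ⊕ Fin 2) (Fin 2 ⊕ Fin 2) F) = 1 := by
      rw [← neg_one_smul F (1 : Matrix (Fin 2 ⊕ Fin 2) (Fin 2 ⊕ Fin 2) F),
        show (-1 : F) = 1 by linear_combination -h20, one_smul]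
    rcases (spMk_pow_eq_one_iff g _).1 (pow_orderOf_eq_one (spMk g)) with h | h
    · exact Subtype.ext (by simpa using h)
    · exact Subtype.ext (by simpa [hneg] using h)
  have hunit : ∃ g : symplecticGroup (Fin 2) F, orderOf g = p ^ Nat.clog p (2 + 2) := exists_sp_unipotent F (by norm_num)
  have htrans : ∃ U : symplecticGroup (Fin 1) F, orderOf U = p := by
    obtain ⟨U, hU⟩ := exists_sp_unipotent F (p := p) (m := 1) le_rfl
    refine ⟨U, hU.trans ?_⟩
    rw [show Nat.clog p (1 + 1) = 1 from Nat.clog_eq_one le_rfl hP.two_le, pow_one]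
  have hsq2 : Odd q ↔ p ≠ 2 := by
    refine ⟨fun h h2 => ?_, fun h2 => hq ▸ (hP.odd_of_ne_two h2).pow⟩
    rw [hq, h2] at h
    exact absurd h (by simp [Nat.not_odd_iff_even, Nat.even_pow, he])
  have mixed : ∀ T : symplecticGroup (Fin 1) F, (orderOf T).Coprime p →
      ∃ y : Cfsg.PSp 2 F, p * orderOf T ∣ orderOf y := by
    intro T hT
    obtain ⟨U, hU⟩ := htrans
    refine ⟨spMk (spSum (rfl : 1 + 1 = 2) (T, U)), ?_⟩
    have hl : (orderOf T).lcm (orderOf U) = p * orderOf T := by rw [hU, hT.lcm_eq_mul, mul_comm]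
    by_cases h2 : p = 2
    · rw [hinj h2, orderOf_injective _ (spSum_injective _), Prod.orderOf, hl]
    · rw [← hl]
      refine dvd_orderOf_spMk_spSum ?_ le_rfl _ T U (hU ▸ hP.odd_of_ne_two h2)
      intro h
      exact h2 ((Nat.prime_dvd_prime_iff_eq hP Nat.prime_two).1
        ((CharP.cast_eq_zero_iff F p 2).1 (by exact_mod_cast h)))
  obtain ⟨⟨s, hs⟩, ⟨t, ht⟩⟩ := exists_sp_orderOf_torus (F := F) (d := 1) le_rfl
  rw [pow_one] at hs ht
  have hcop : ∀ m, (m = q - 1 ∨ m = q + 1) → m.Coprime p := by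
    intro m hm
    rw [Nat.coprime_comm, hP.coprime_iff_not_dvd]
    intro hd
    have hpq : p ∣ q := hq ▸ dvd_pow_self p he
    have h1 : p ∣ 1 := by
      have h1q : 1 ≤ q := Fintype.card_pos
      rcases hm with rfl | rfl
      · have := Nat.dvd_sub hpq hd
        rwa [show q - (q - 1) = 1 by omega] at this
      · exact (Nat.dvd_add_right hpq).1 hd
    exact hP.ne_one (Nat.dvd_one.1 h1)
  obtain ⟨⟨S, hS⟩, ⟨T, hT⟩⟩ := exists_sp_orderOf_torus (F := F) (d := 2) (by norm_num)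
  have half : ∀ g : symplecticGroup (Fin 2) F, ∀ m, orderOf g = 2 * m → m ∣ orderOf (spMk g) := by
    intro g m hg
    have h : orderOf g ∣ orderOf (spMk g) * 2 := by
      refine orderOf_dvd_of_pow_eq_one (Subtype.ext ?_)
      rw [SubmonoidClass.coe_pow, pow_mul]
      rcases (spMk_pow_eq_one_iff g _).1 (pow_orderOf_eq_one (spMk g)) with h' | h' <;> rw [h'] <;> simp
    rw [hg, mul_comm 2 m] at h
    exact Nat.dvd_of_mul_dvd_mul_right (by norm_num) h
  rcases hn with ⟨hn, h3⟩ | hn | hn | ⟨h2, hn | hn⟩ | ⟨h2, hn | hn⟩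
  · obtain ⟨g, hg⟩ := hunit
    refine ⟨spMk g, hn.trans ?_⟩
    have hcl : Nat.clog p (2 + 2) = 2 := by
      have := hP.two_le
      interval_cases p
      · exact Nat.clog_pow 2 2 (by norm_num)
      · exact le_antisymm (Nat.clog_le_of_le_pow (by norm_num)) ((Nat.lt_clog_iff_pow_lt (by norm_num)).2 (by norm_num))
    rcases (show p = 2 ∨ p ≠ 2 from em _) with h2 | h2
    · rw [hinj h2, hg, hcl]
    · rw [orderOf_spMk_of_odd ?_ (by norm_num) (hg ▸ (hP.odd_of_ne_two h2).pow), hg, hcl]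
      intro h
      exact h2 ((Nat.prime_dvd_prime_iff_eq hP Nat.prime_two).1
        ((CharP.cast_eq_zero_iff F p 2).1 (by exact_mod_cast h)))
  · obtain ⟨y, hy⟩ := mixed s (hs ▸ hcop _ (Or.inl rfl))
    exact ⟨y, hn.trans (hs ▸ hy)⟩
  · obtain ⟨y, hy⟩ := mixed t (ht ▸ hcop _ (Or.inr rfl))
    exact ⟨y, hn.trans (ht ▸ hy)⟩
  · exact ⟨spMk S, hn.trans (by rw [hinj h2, hS])⟩
  · exact ⟨spMk T, hn.trans (by rw [hinj h2, hT])⟩
  · obtain ⟨r, hr⟩ := (hsq2.2 h2).pow (n := 2)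
    exact ⟨spMk S, hn.trans (half S _ (by rw [hS, ← hqq]; omega))⟩
  · obtain ⟨r, hr⟩ := (hsq2.2 h2).pow (n := 2)
    exact ⟨spMk T, hn.trans (half T _ (by rw [hT, ← hqq]; omega))⟩

end CfsgLib.SpFourTwins
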