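/-
Semidirect products of an elementary abelian group with a group of linear maps, and sandwich actions.
-/
import Cfsg.Agent.Lib.Spectrum.SpFourTwins.SpSide
import Cfsg.Agent.Lib.Spectrum.Semidirect
import Cfsg.Agent.Lib.Spectrum.SL2

set_option autoImplicit false

namespace CfsgLib.SpFourTwins

open Matrix Polynomial CfsgLib.Spectrum

variable {K W : Type*} [Field K] [AddCommGroup W] [Module K W]

/-- A group of linear maps acting on the multiplicative copy of the space. -/
def linAct (X : Subgroup (W ≃ₗ[K] W)) : X →* MulAut (Multiplicative W) where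
  toFun x := AddEquiv.toMultiplicative x.1.toAddEquiv
  map_one' := by ext v; rfl
  map_mul' x y := by ext v; rfl

@[simp] lemma linAct_apply (X : Subgroup (W ≃ₗ[K] W)) (x : X) (v : Multiplicative W) :
    (linAct X x v).toAdd = x.1 v.toAdd := rfl

lemma pow_left (X : Subgroup (W ≃ₗ[K] W)) (y : Multiplicative W ⋊[linAct X] X) (m : ℕ) :
    (y ^ m).left.toAdd = (∑ i ∈ Finset.range m, (y.right.1.toLinearMap : Module.End K W) ^ i) y.left.toAdd := by
  induction m with
  | zero => simp
  | succ m ih =>
    rw [pow_succ', SemidirectProduct.mul_left, toAdd_mul, linAct_apply, ih, Finset.sum_range_succ',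
      LinearMap.add_apply, LinearMap.sum_apply, LinearMap.sum_apply, map_sum, pow_zero, add_comm]
    congr 1
    refine Finset.sum_congr rfl fun i _ => ?_
    rw [pow_succ', Module.End.mul_apply]
    rfl

section Order

variable [Finite W] {X : Subgroup (W ≃ₗ[K] W)} [Finite X] {p : ℕ}

lemma exp_of_charP [CharP K p] (v : Multiplicative W) : v ^ p = 1 := by
  apply Multiplicative.toAdd.injective
  rw [toAdd_pow, ← Nat.cast_smul_eq_nsmul K, CharP.cast_eq_zero, zero_smul]
  rfl

lemma orderOf_dvd_right_mul [CharP K p] (y : Multiplicative W ⋊[linAct X] X) :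
    orderOf y ∣ p * orderOf y.right := by
  rw [orderOf_eq_right_mul y, mul_comm]
  exact mul_dvd_mul (orderOf_dvd_of_pow_eq_one (exp_of_charP (K := K) _)) dvd_rfl

omit [Finite W] in
lemma orderOf_eq_of_no_fixed (y : Multiplicative W ⋊[linAct X] X) (h : ∀ w : W, y.right.1 w = w → w = 0) :
    orderOf y = orderOf y.right :=
  orderOf_eq_of_fixedPointFree y fun v hv => Multiplicative.toAdd.injective (h _ (congrArg Multiplicative.toAdd hv))

omit [Finite W] [Finite X] in
lemma orderOf_dvd_of_norm (y : Multiplicative W ⋊[linAct X] X) {m : ℕ} (h : y.right ^ m = 1)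
    (hn : ∑ i ∈ Finset.range m, (y.right.1.toLinearMap : Module.End K W) ^ i = 0) : orderOf y ∣ m := by
  refine orderOf_dvd_of_pow_eq_one (SemidirectProduct.ext ?_ ?_)
  · apply Multiplicative.toAdd.injective
    rw [pow_left, hn]
    rfl
  · rw [← SemidirectProduct.rightHom_eq_right, map_pow]
    exact h

lemma orderOf_fixed [CharP K p] [Fact p.Prime] {x : X} {w : W} (hw : w ≠ 0) (hfix : x.1 w = w) :
    orderOf (⟨Multiplicative.ofAdd w, x⟩ : Multiplicative W ⋊[linAct X] X) = p.lcm (orderOf x) := by
  rw [orderOf_mk_of_fixed (Multiplicative.toAdd.injective hfix), orderOf_eq_prime (exp_of_charP (K := K) _)]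
  intro h
  exact hw (by simpa using congrArg Multiplicative.toAdd h)

end Order

/-- Two groups, both with element orders exactly those with a property `A` up to divisibility, are isospectral;
taking many copies of the module makes one of them large. -/
theorem exists_twin_of [Finite K] [Finite W] [Nontrivial W] (X : Subgroup (W ≃ₗ[K] W)) {p : ℕ} [Fact p.Prime]
    [CharP K p] {A : ℕ → Prop} {B : Type*} [Group B] [Finite B]
    (hB : ∀ b : B, A (orderOf b)) (hB' : ∀ n, A n → ∃ b : B, n ∣ orderOf b)
    (h : ∀ y : Multiplicative W ⋊[linAct X] X, A (orderOf y))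
    (h' : ∀ n, A n → ∃ y : Multiplicative W ⋊[linAct X] X, n ∣ orderOf y) (N : ℕ) :
    ∃ (H : Type) (_ : Group H) (_ : Fintype H), N < Fintype.card H ∧
      Set.range (orderOf : H → ℕ) = Set.range (orderOf : B → ℕ) := by
  haveI : Finite (W ≃ₗ[K] W) := Finite.of_injective _ DFunLike.coe_injective
  obtain ⟨H, i1, i2, ⟨e⟩⟩ := exists_small_equiv ((Fin (N + 1) → Multiplicative W) ⋊[powAct (linAct X) (N + 1)] X)
  refine ⟨H, i1, i2, ?_, ?_⟩
  · rw [← Nat.card_eq_fintype_card, Nat.card_congr e.toEquiv]
    exact Nat.lt_of_succ_lt (lt_card_pow_semidirect (N + 1))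
  rw [range_orderOf_congr e]
  refine CfsgLib.KnownSimple.range_orderOf_eq_of_forall_dvd ?_ ?_
  · intro z
    refine hB' _ ?_
    rcases orderOf_pow_cases Fact.out (exp_of_charP (K := K)) z with hz | ⟨hz, i, hi⟩
    · rw [hz, ← orderOf_injective _ (SemidirectProduct.inr_injective (φ := linAct X)) z.right]
      exact h _
    · rw [hz, ← hi]
      exact h _
  · intro b
    obtain ⟨y, hy⟩ := h' _ (hB b)
    let ι : Multiplicative W ⋊[linAct X] X →* (Fin (N + 1) → Multiplicative W) ⋊[powAct (linAct X) (N + 1)] X :=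
      SemidirectProduct.map ({ toFun := fun v _ => v, map_one' := rfl, map_mul' := fun _ _ => rfl } : Multiplicative W →* (Fin (N + 1) → Multiplicative W)) (MonoidHom.id X) fun g => by
        ext v i
        simp
    refine ⟨ι y, hy.trans (orderOf_injective ι ?_ y).symm.dvd⟩
    intro a b hab
    refine SemidirectProduct.ext ?_ ?_
    · exact congrFun (congrArg SemidirectProduct.left hab) 0
    · exact (congrArg SemidirectProduct.right hab :)

/-- The case of the orders admissible for `PSp(4, q)`. -/
theorem exists_twin [Finite K] [Finite W] [Nontrivial W] (X : Subgroup (W ≃ₗ[K] W)) {p q : ℕ} [Fact p.Prime]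
    [CharP K p] {B : Type*} [Group B] [Finite B]
    (hB : ∀ b : B, Adm p q (orderOf b)) (hB' : ∀ n, Adm p q n → ∃ b : B, n ∣ orderOf b)
    (h : ∀ y : Multiplicative W ⋊[linAct X] X, Adm p q (orderOf y))
    (h' : ∀ n, Adm p q n → ∃ y : Multiplicative W ⋊[linAct X] X, n ∣ orderOf y) (N : ℕ) :
    ∃ (H : Type) (_ : Group H) (_ : Fintype H), N < Fintype.card H ∧
      Set.range (orderOf : H → ℕ) = Set.range (orderOf : B → ℕ) :=
  exists_twin_of (p := p) (A := Adm p q) X hB hB' h h' N

section Sandwich

variable {n : Type*} [Fintype n] [DecidableEq n]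

/-- The action `M ↦ f A * M * (g A)ᵀ`. -/
def sandwich {G : Type*} [Group G] (f g : G →* Matrix n n K) : G →* (Matrix n n K ≃ₗ[K] Matrix n n K) where
  toFun A :=
    { toFun := fun M => f A * M * (g A)ᵀ
      invFun := fun M => f A⁻¹ * M * (g A⁻¹)ᵀ
      map_add' := fun M M' => by rw [mul_add, add_mul]
      map_smul' := fun c M => by rw [RingHom.id_apply, mul_smul_comm, smul_mul_assoc]
      left_inv := fun M => by
        dsimp only
        rw [← Matrix.mul_assoc, ← Matrix.mul_assoc, ← map_mul, inv_mul_cancel, map_one, one_mul,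
          Matrix.mul_assoc, ← transpose_mul, ← map_mul, inv_mul_cancel, map_one, transpose_one, mul_one]
      right_inv := fun M => by
        dsimp only
        rw [← Matrix.mul_assoc, ← Matrix.mul_assoc, ← map_mul, mul_inv_cancel, map_one, one_mul,
          Matrix.mul_assoc, ← transpose_mul, ← map_mul, mul_inv_cancel, map_one, transpose_one, mul_one] }
  map_one' := by ext M : 1; simp
  map_mul' A B := by ext M : 1; simp [transpose_mul, Matrix.mul_assoc]

@[simp] lemma sandwich_apply {G : Type*} [Group G] (f g : G →* Matrix n n K) (A : G) (M : Matrix n n K) :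
    sandwich f g A M = f A * M * (g A)ᵀ := rfl

end Sandwich

section SLTwo

/-- `SL₂` as matrices. -/
def slMat : SpecialLinearGroup (Fin 2) K →* Matrix (Fin 2) (Fin 2) K where
  toFun A := A.1
  map_one' := rfl
  map_mul' _ _ := rfl

@[simp] lemma slMat_apply (A : SpecialLinearGroup (Fin 2) K) : slMat A = (A : Matrix (Fin 2) (Fin 2) K) := rfl

lemma aeval_quad (A : SpecialLinearGroup (Fin 2) K) :
    aeval (A : Matrix (Fin 2) (Fin 2) K) (quad (A : Matrix (Fin 2) (Fin 2) K).trace) = 0 := by
  simp only [quad, map_add, map_sub, map_mul, map_pow, aeval_X, aeval_C, map_one, Algebra.algebraMap_eq_smul_one,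
    smul_mul_assoc, one_mul, sq, sl2_mul_self]
  abel

lemma pow_eq_of_quad_dvd {A : SpecialLinearGroup (Fin 2) K} {m : ℕ} {c : K}
    (h : quad (A : Matrix (Fin 2) (Fin 2) K).trace ∣ X ^ m - C c) :
    ((A ^ m : SpecialLinearGroup (Fin 2) K) : Matrix (Fin 2) (Fin 2) K) = c • 1 := by
  obtain ⟨r, hr⟩ := h
  have := congrArg (aeval (A : Matrix (Fin 2) (Fin 2) K)) hr
  rw [map_mul, aeval_quad, zero_mul, map_sub, map_pow, aeval_X, aeval_C, sub_eq_zero,
    Algebra.algebraMap_eq_smul_one] at this
  simpa using this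

/-- Sums of powers of a unipotent map of small degree vanish. -/
lemma geom_sum_eq_zero_of_unipotent {p : ℕ} [Fact p.Prime] [CharP K p] (T : Module.End K W) {k : ℕ}
    (hT : (T - 1) ^ k = 0) (hk : k ≤ p - 1) : ∑ i ∈ Finset.range p, T ^ i = 0 := by
  have h : (∑ i ∈ Finset.range p, (Polynomial.X : K[X]) ^ i) = (Polynomial.X - 1) ^ (p - 1) := by
    have hp1 : 1 ≤ p := (Fact.out : p.Prime).one_lt.le
    refine mul_right_cancel₀ (X_sub_C_ne_zero (1 : K)) ?_
    rw [C_1, geom_sum_mul, ← pow_succ, Nat.sub_add_cancel hp1, sub_pow_char, one_pow]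
  have h2 := congrArg (aeval T) h
  simp only [map_sum, map_pow, aeval_X, map_sub, map_one] at h2
  rw [h2, pow_eq_zero_of_le hk hT]

lemma geom_sum_double {R : Type*} [Ring R] (T : R) (m : ℕ) :
    ∑ i ∈ Finset.range (2 * m), T ^ i = (1 + T) * ∑ i ∈ Finset.range m, (T * T) ^ i := by
  induction m with
  | zero => simp
  | succ m ih =>
    rw [Nat.mul_succ, Finset.sum_range_succ, Finset.sum_range_succ, ih, Finset.sum_range_succ _ m, mul_add,
      show (T * T) ^ m = T ^ (2 * m) by rw [← sq, ← pow_mul], add_mul 1 T (T ^ (2 * m)), one_mul, pow_succ']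
    abel

end SLTwo

end CfsgLib.SpFourTwins
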