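/-
The module of 2 × 2 matrices for `SL(2, q²)`, twisted by the field automorphism of order two: isospectral
extensions for `PSp(4, q)` when `p ≠ 3`.
-/
import Cfsg.Agent.Lib.Spectrum.SpFourTwins.Twin
import Cfsg.Agent.Lib.KnownSimple.SpConstruct

set_option autoImplicit false

namespace CfsgLib.SpFourTwins

open Matrix Polynomial CfsgLib.Spectrum

variable {K : Type*} [Field K]

/-- The diagonal element of `SL₂` of a unit. -/
def dg : Kˣ →* SpecialLinearGroup (Fin 2) K where
  toFun u := ⟨!![(u : K), 0; 0, ((u⁻¹ : Kˣ) : K)], by simp [det_fin_two]⟩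
  map_one' := Subtype.ext (by ext i j; fin_cases i <;> fin_cases j <;> simp)
  map_mul' u v := Subtype.ext (by
    show (_ : Matrix (Fin 2) (Fin 2) K) = !![(u : K), 0; 0, ((u⁻¹ : Kˣ) : K)] * !![(v : K), 0; 0, ((v⁻¹ : Kˣ) : K)]
    ext i j; fin_cases i <;> fin_cases j <;> simp [Matrix.mul_apply, Fin.sum_univ_two, mul_comm])

@[simp] lemma dg_coe (u : Kˣ) :
    (dg u : Matrix (Fin 2) (Fin 2) K) = !![(u : K), 0; 0, ((u⁻¹ : Kˣ) : K)] := rfl

lemma dg_injective : Function.Injective (dg (K := K)) := fun u v h =>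
  Units.ext (congrFun (congrFun (congrArg Subtype.val h) 0) 0 :)

/-- The antidiagonal element of `SL₂` of a unit. -/
def aw (u : Kˣ) : SpecialLinearGroup (Fin 2) K :=
  ⟨!![0, (u : K); -((u⁻¹ : Kˣ) : K), 0], by simp [det_fin_two]⟩

@[simp] lemma aw_coe (u : Kˣ) :
    (aw u : Matrix (Fin 2) (Fin 2) K) = !![0, (u : K); -((u⁻¹ : Kˣ) : K), 0] := rfl

variable (σ : K →+* K)

/-- The action `M ↦ A M (σ A)ᵀ`. -/
def hermAct : SpecialLinearGroup (Fin 2) K →* (Matrix (Fin 2) (Fin 2) K ≃ₗ[K] Matrix (Fin 2) (Fin 2) K) :=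
  sandwich slMat (slMat.comp (SpecialLinearGroup.map σ))

lemma hermAct_apply (A : SpecialLinearGroup (Fin 2) K) (M : Matrix (Fin 2) (Fin 2) K) :
    hermAct σ A M = (A : Matrix (Fin 2) (Fin 2) K) * M * ((A : Matrix (Fin 2) (Fin 2) K).map σ)ᵀ := rfl

lemma hermAct_dg (u : Kˣ) (M : Matrix (Fin 2) (Fin 2) K) :
    hermAct σ (dg u) M = !![(u : K) * σ u * M 0 0, (u : K) * (σ u)⁻¹ * M 0 1;
      (u : K)⁻¹ * σ u * M 1 0, (u : K)⁻¹ * (σ u)⁻¹ * M 1 1] := by
  rw [hermAct_apply, dg_coe]
  ext i j
  fin_cases i <;> fin_cases j <;> simp [Matrix.mul_apply, Fin.sum_univ_two, Matrix.vecMul, Matrix.vecHead, Matrix.vecTail, dotProduct] <;> ring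

lemma hermAct_aw (u : Kˣ) (M : Matrix (Fin 2) (Fin 2) K) :
    hermAct σ (aw u) M = !![(u : K) * σ u * M 1 1, -((u : K) * (σ u)⁻¹ * M 1 0);
      -((u : K)⁻¹ * σ u * M 0 1), (u : K)⁻¹ * (σ u)⁻¹ * M 0 0] := by
  rw [hermAct_apply, aw_coe]
  ext i j
  fin_cases i <;> fin_cases j <;> simp [Matrix.mul_apply, Fin.sum_univ_two, Matrix.vecMul, Matrix.vecHead, Matrix.vecTail, dotProduct] <;> ring

/-- The transpose, as a linear equivalence. -/
def trEquiv : Matrix (Fin 2) (Fin 2) K ≃ₗ[K] Matrix (Fin 2) (Fin 2) K := transposeLinearEquiv (Fin 2) (Fin 2) K K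

lemma trEquiv_mul_self : trEquiv * trEquiv = (1 : Matrix (Fin 2) (Fin 2) K ≃ₗ[K] Matrix (Fin 2) (Fin 2) K) := by
  ext M : 1
  rfl

lemma trEquiv_mul_hermAct (hσ : ∀ x, σ (σ x) = x) (A : SpecialLinearGroup (Fin 2) K) :
    trEquiv * hermAct σ A = hermAct σ (SpecialLinearGroup.map σ A) * trEquiv := by
  refine LinearEquiv.ext fun M => ?_
  show (hermAct σ A M)ᵀ = hermAct σ (SpecialLinearGroup.map σ A) Mᵀ
  rw [hermAct_apply, hermAct_apply, transpose_mul, transpose_mul, transpose_transpose, Matrix.mul_assoc]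
  congr 2
  ext i j
  simp [hσ]

/-- The extension of the twisted action by the transpose. -/
def hermExt (hσ : ∀ x, σ (σ x) = x) : Subgroup (Matrix (Fin 2) (Fin 2) K ≃ₗ[K] Matrix (Fin 2) (Fin 2) K) where
  carrier := {x | ∃ A, x = hermAct σ A ∨ x = hermAct σ A * trEquiv}
  one_mem' := ⟨1, Or.inl (map_one _).symm⟩
  mul_mem' := by
    rintro _ _ ⟨A, rfl | rfl⟩ ⟨B, rfl | rfl⟩
    · exact ⟨A * B, Or.inl (map_mul _ _ _).symm⟩
    · exact ⟨A * B, Or.inr (by rw [map_mul, mul_assoc])⟩
    · exact ⟨A * SpecialLinearGroup.map σ B, Or.inr (by rw [map_mul, mul_assoc, trEquiv_mul_hermAct σ hσ, mul_assoc])⟩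
    · exact ⟨A * SpecialLinearGroup.map σ B, Or.inl (by
        rw [map_mul, mul_assoc, ← mul_assoc trEquiv, trEquiv_mul_hermAct σ hσ, mul_assoc _ trEquiv,
          trEquiv_mul_self, mul_one])⟩
  inv_mem' := by
    rintro _ ⟨A, rfl | rfl⟩
    · exact ⟨A⁻¹, Or.inl (map_inv _ _).symm⟩
    · refine ⟨SpecialLinearGroup.map σ A⁻¹, Or.inr ?_⟩
      rw [_root_.mul_inv_rev, ← map_inv, show trEquiv⁻¹ = (trEquiv : Matrix (Fin 2) (Fin 2) K ≃ₗ[K] _) from
        inv_eq_of_mul_eq_one_right trEquiv_mul_self, trEquiv_mul_hermAct σ hσ]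

lemma hermAct_sq_kernel (A : SpecialLinearGroup (Fin 2) K) (h : hermAct σ A = 1) : A ^ 2 = 1 := by
  have e : ∀ i j a b, hermAct σ A (Matrix.single i j 1) a b = (Matrix.single i j (1 : K)) a b := fun i j a b => by
    rw [h]; rfl
  have h0 := e 0 0 0 0
  have h1 := e 0 1 0 1
  have h2 := e 1 0 1 0
  have h3 := e 0 0 1 0
  have h4 := e 1 1 0 1
  simp [hermAct_apply, Matrix.mul_apply, Fin.sum_univ_two, Matrix.single] at h0 h1 h2 h3 h4
  have hd := A.2
  rw [det_fin_two] at hd
  have h10 : A.1 1 0 = 0 := by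
    rcases h3 with h | h
    · exact h
    · rw [h, map_zero, mul_zero] at h0; exact absurd h0 zero_ne_one
  have h01 : A.1 0 1 = 0 := by
    rcases h4 with h | h
    · exact h
    · rw [h, map_zero, mul_zero] at h1; exact absurd h1 zero_ne_one
  have hσ0 : σ (A.1 0 0) = σ (A.1 1 1) := by
    refine mul_left_cancel₀ (left_ne_zero_of_mul_eq_one h0) (h0.trans h1.symm)
  have heq : A.1 0 0 = A.1 1 1 := σ.injective hσ0
  rw [h10, h01, mul_zero, sub_zero, heq] at hd
  apply Subtype.ext
  ext i j
  fin_cases i <;> fin_cases j <;>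
    simp [sq, Matrix.mul_apply, Fin.sum_univ_two, h10, h01, heq, hd]

lemma hermAct_ne_trEquiv (A : SpecialLinearGroup (Fin 2) K) : hermAct σ A ≠ trEquiv := by
  intro h
  have e : ∀ i j a b, hermAct σ A (Matrix.single i j 1) a b = (Matrix.single i j (1 : K)) b a := fun i j a b => by
    rw [h]; rfl
  have h0 := e 0 0 0 0
  have h1 := e 0 0 1 0
  have h2 := e 0 1 1 0
  simp [hermAct_apply, Matrix.mul_apply, Fin.sum_univ_two, Matrix.single] at h0 h1 h2
  have h10 : A.1 1 0 = 0 := by
    rcases h1 with h | h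
    · exact h
    · rw [h, map_zero, mul_zero] at h0; exact absurd h0 zero_ne_one
  rw [h10, zero_mul] at h2
  exact zero_ne_one h2

lemma fixed_trace (A : SpecialLinearGroup (Fin 2) K) (M : Matrix (Fin 2) (Fin 2) K) (hM : hermAct σ A M = M)
    (ht : σ (A : Matrix (Fin 2) (Fin 2) K).trace ≠ (A : Matrix (Fin 2) (Fin 2) K).trace) : M = 0 := by
  set a : Matrix (Fin 2) (Fin 2) K := (A : Matrix (Fin 2) (Fin 2) K) with ha
  set B : SpecialLinearGroup (Fin 2) K := (SpecialLinearGroup.map σ A)⁻¹ with hB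
  set b : Matrix (Fin 2) (Fin 2) K := (B : Matrix (Fin 2) (Fin 2) K)ᵀ with hb
  have hab : a * M = M * b := by
    have h := congrArg (fun Z => Z * b) hM
    simp only [hermAct_apply, Matrix.mul_assoc] at h
    rw [show (a.map σ)ᵀ * b = 1 by
      rw [hb, ← transpose_mul, hB, show a.map σ = ((SpecialLinearGroup.map σ A : SpecialLinearGroup (Fin 2) K) :
        Matrix (Fin 2) (Fin 2) K) from rfl, ← Matrix.SpecialLinearGroup.coe_mul, inv_mul_cancel,
        Matrix.SpecialLinearGroup.coe_one, transpose_one], mul_one] at h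
    exact h
  have htB : (B : Matrix (Fin 2) (Fin 2) K).trace = σ a.trace := by
    rw [hB, Matrix.SpecialLinearGroup.coe_inv, adjugate_fin_two, trace_fin_two, trace_fin_two]
    simp [ha, add_comm]
  have hb2 : b * b = σ a.trace • b - 1 := by
    rw [hb, ← transpose_mul, sl2_mul_self, htB]
    simp
  have h2 : a * (a * M) = M * (b * b) := by rw [hab, ← Matrix.mul_assoc, hab, Matrix.mul_assoc]
  rw [← Matrix.mul_assoc, sl2_mul_self, hb2, mul_sub, sub_mul, mul_smul_comm, smul_mul_assoc, ← hab, mul_one,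
    one_mul, sub_left_inj, ← sub_eq_zero, ← sub_smul] at h2
  have haM : a * M = 0 := (smul_eq_zero.1 h2).resolve_left (sub_ne_zero.2 (Ne.symm ht))
  have := congrArg (fun Z => ((A⁻¹ : SpecialLinearGroup (Fin 2) K) : Matrix (Fin 2) (Fin 2) K) * Z) haM
  simp only [← Matrix.mul_assoc, mul_zero, ha, ← Matrix.SpecialLinearGroup.coe_mul, inv_mul_cancel,
    Matrix.SpecialLinearGroup.coe_one, one_mul] at this
  exact this

lemma hermAct_unipotent {A : SpecialLinearGroup (Fin 2) K} (h4 : (A : Matrix (Fin 2) (Fin 2) K).trace ^ 2 = 4)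
    (h20 : (2 : K) ≠ 0) : ((hermAct σ A).toLinearMap - 1 : Module.End K _) ^ 3 = 0 := by
  set a : Matrix (Fin 2) (Fin 2) K := (A : Matrix (Fin 2) (Fin 2) K) with ha
  set ε : K := a.trace / 2 with hε
  have hε2 : ε * ε = 1 := by rw [hε]; field_simp; linear_combination h4
  have hεσ : σ ε = ε := by
    rcases mul_self_eq_one_iff.1 hε2 with h | h <;> simp [h]
  have hat : a * a = a.trace • a - 1 := sl2_mul_self A
  have hbt : (a.map σ)ᵀ * (a.map σ)ᵀ = a.trace • (a.map σ)ᵀ - 1 := by
    have hm : a.trace = σ a.trace := by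
      rw [show a.trace = ε + ε by rw [hε]; field_simp; ring, map_add, hεσ]
    have := congrArg (fun Z => (Z.map σ)ᵀ) hat
    rw [Matrix.map_mul, transpose_mul, Matrix.map_sub _ (map_sub σ),
      Matrix.map_one _ (map_zero σ) (map_one σ), transpose_sub, transpose_one] at this
    rw [this, hm]
    congr 1
    ext i j
    simp [← hm]
  let u : Module.End K (Matrix (Fin 2) (Fin 2) K) := LinearMap.mulLeft K (ε • a - 1)
  let v : Module.End K (Matrix (Fin 2) (Fin 2) K) := LinearMap.mulRight K (ε • (a.map σ)ᵀ - 1)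
  have sq0 : ∀ c : Matrix (Fin 2) (Fin 2) K, c * c = a.trace • c - 1 → (ε • c - 1) * (ε • c - 1) = 0 := by
    intro c hc
    have ht2 : a.trace = 2 * ε := by rw [hε]; field_simp
    rw [sub_mul, mul_sub, smul_mul_smul_comm, hε2, one_smul, hc, ht2, mul_one, one_mul]
    module
  have hu : u * u = 0 := by
    refine LinearMap.ext fun M => ?_
    show (ε • a - 1) * ((ε • a - 1) * M) = 0
    rw [← Matrix.mul_assoc, sq0 _ hat, zero_mul]
  have hv : v * v = 0 := by
    refine LinearMap.ext fun M => ?_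
    show M * (ε • (a.map σ)ᵀ - 1) * (ε • (a.map σ)ᵀ - 1) = 0
    rw [Matrix.mul_assoc, sq0 _ hbt, mul_zero]
  have huv : u * v = v * u := by
    refine LinearMap.ext fun M => ?_
    show (ε • a - 1) * (M * (ε • (a.map σ)ᵀ - 1)) = (ε • a - 1) * M * (ε • (a.map σ)ᵀ - 1)
    rw [Matrix.mul_assoc]
  have hT : ((hermAct σ A).toLinearMap - 1 : Module.End K _) = u + v + u * v := by
    refine LinearMap.ext fun M => ?_
    show a * M * (a.map σ)ᵀ - M = (ε • a - 1) * M + M * (ε • (a.map σ)ᵀ - 1) + (ε • a - 1) * (M * (ε • (a.map σ)ᵀ - 1))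
    simp only [sub_mul, mul_sub, smul_mul_assoc, mul_smul_comm, smul_sub, smul_smul, hε2, one_smul, one_mul,
      mul_one, Matrix.mul_assoc]
    module
  have hsq : (u + v + u * v) ^ 2 = 2 • (u * v) := by
    have h1 : u * (u * v) = 0 := by rw [← mul_assoc, hu, zero_mul]
    have h2 : u * v * u = 0 := by rw [huv, mul_assoc, hu, mul_zero]
    have h3 : v * (u * v) = 0 := by rw [huv, ← mul_assoc, hv, zero_mul]
    have h4 : u * v * v = 0 := by rw [mul_assoc, hv, mul_zero]
    have h5 : u * v * (u * v) = 0 := by rw [← mul_assoc, h2, zero_mul]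
    rw [sq]
    simp only [mul_add, add_mul, hu, hv, h1, h2, h3, h4, h5, ← huv]
    abel
  rw [hT, pow_succ, hsq, smul_mul_assoc, mul_add, mul_add, mul_assoc, mul_assoc, mul_assoc, hv, mul_zero]
  rw [show u * (v * u) = 0 by rw [← huv, ← mul_assoc, hu, zero_mul],
    show u * (v * (u * v)) = 0 by rw [← mul_assoc v, ← huv, mul_assoc u v v, hv, mul_zero, mul_zero]]
  simp

section Field

variable {p : ℕ} [hp : Fact p.Prime] [Finite K] [CharP K p]

/-- The `e`-fold Frobenius. -/
noncomputable def frob (p : ℕ) [Fact p.Prime] (K : Type*) [Field K] [CharP K p] (e : ℕ) : K →+* K :=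
  iterateFrobenius K p e

omit [Finite K] in
lemma frob_apply (e : ℕ) (x : K) : frob p K e x = x ^ (p ^ e) := iterateFrobenius_def ..

lemma frob_frob {e : ℕ} (hK : Nat.card K = (p ^ e) ^ 2) (x : K) : frob p K e (frob p K e x) = x := by
  letI := Fintype.ofFinite K
  rw [frob_apply, frob_apply, ← pow_mul, ← sq, ← hK, Nat.card_eq_fintype_card, FiniteField.pow_card]

lemma hermAct_pow_cases (A : SpecialLinearGroup (Fin 2) K) {m : ℕ} {c : K} (hc : c * c = 1)
    (h : quad (A : Matrix (Fin 2) (Fin 2) K).trace ∣ Polynomial.X ^ m - Polynomial.C c) :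
    hermAct σ A ^ m = 1 := by
  rw [← map_pow]
  refine LinearEquiv.ext fun M => ?_
  rw [hermAct_apply, pow_eq_of_quad_dvd h]
  have hcσ : σ c = c := by rcases mul_self_eq_one_iff.1 hc with rfl | rfl <;> simp
  simp [Matrix.map_smul', Matrix.map_one σ (map_zero σ) (map_one σ), hcσ, smul_smul, hc]

include hp in
/-- The semidirect products built on the twisted action have admissible element orders. -/
lemma adm_of_hermAct {e : ℕ} (he : e ≠ 0) (hp3 : p ≠ 3) (hK : Nat.card K = (p ^ e) ^ 2)
    (X : Subgroup (Matrix (Fin 2) (Fin 2) K ≃ₗ[K] Matrix (Fin 2) (Fin 2) K))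
    (y : Multiplicative (Matrix (Fin 2) (Fin 2) K) ⋊[linAct X] X) (A : SpecialLinearGroup (Fin 2) K)
    (hy : y.right.1 = hermAct (frob p K e) A ∨ (p ≠ 2 ∧ y.right.1 = hermAct (frob p K e) A * trEquiv)) :
    Adm p (p ^ e) (orderOf y) := by
  classical
  haveI : Finite (Matrix (Fin 2) (Fin 2) K) := Module.finite_of_finite K
  haveI : Finite (Matrix (Fin 2) (Fin 2) K ≃ₗ[K] Matrix (Fin 2) (Fin 2) K) :=
    Finite.of_injective _ DFunLike.coe_injective
  have hP := hp.out
  set σ := frob p K e with hσdef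
  set q := p ^ e with hq
  have hmul : p * orderOf y.right ∣ p * orderOf y.right := dvd_rfl
  have hxpow : ∀ m, y.right.1 ^ m = 1 → orderOf y.right ∣ m := fun m h =>
    orderOf_dvd_of_pow_eq_one (Subtype.ext (by simpa using h))
  have h20 : p ≠ 2 → (2 : K) ≠ 0 := fun h2 h =>
    h2 ((Nat.prime_dvd_prime_iff_eq hP Nat.prime_two).1 ((CharP.cast_eq_zero_iff K p 2).1 (by exact_mod_cast h)))
  rcases hy with hy | ⟨h2, hy⟩
  · set t := (A : Matrix (Fin 2) (Fin 2) K).trace with ht
    by_cases h4 : t ^ 2 = 4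
    · by_cases h2 : p = 2
      · left
        refine ⟨?_, by omega⟩
        have hA : hermAct σ A ^ 2 = 1 := by
          rw [← map_pow]
          have h20' : (2 : K) = 0 := by
            have := CharP.cast_eq_zero K p
            rw [h2] at this
            exact_mod_cast this
          haveI : CharP K 2 := h2 ▸ ‹CharP K p›
          rw [sl2_sq_eq_one_of_trace_zero A (by
            rw [show (4 : K) = 2 * 2 by norm_num, h20', mul_zero] at h4
            simpa using h4), map_one]
        refine (orderOf_dvd_right_mul (p := p) y).trans ?_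
        rw [sq]
        exact mul_dvd_mul_left _ (by rw [h2]; exact hxpow 2 (by rw [hy, hA]))
      · have h3 : (((hermAct σ A).toLinearMap : Module.End K _) - 1) ^ 3 = 0 := hermAct_unipotent σ h4 (h20 h2)
        have h5 : 3 ≤ p - 1 := by
          have := hP.two_le
          have : p ≠ 4 := fun h => absurd (h ▸ hP) (by norm_num)
          omega
        have hxp : y.right ^ p = 1 := by
          refine Subtype.ext ?_
          apply LinearEquiv.toLinearMap_injective
          have hs := geom_sum_eq_zero_of_unipotent (p := p) _ h3 h5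
          have := geom_sum_mul ((hermAct σ A).toLinearMap : Module.End K _) p
          rw [hs, zero_mul, eq_comm, sub_eq_zero] at this
          rw [SubmonoidClass.coe_pow, hy]
          exact (map_pow (LinearEquiv.automorphismGroup.toLinearMapMonoidHom) _ p).trans this
        have hn : orderOf y ∣ p := orderOf_dvd_of_norm y hxp (by
          rw [hy]; exact geom_sum_eq_zero_of_unipotent _ h3 h5)
        exact Or.inr (Or.inl (hn.trans (dvd_mul_right _ _)))
    · by_cases hσt : σ t = t
      · have htq : t ^ (p ^ e) = t := by rw [← frob_apply]; exact hσt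
        rcases quad_dvd_cases htq h4 with h | h
        · exact Or.inr (Or.inl ((orderOf_dvd_right_mul (p := p) y).trans (mul_dvd_mul_left _
            (hxpow _ (by rw [hy]; exact hermAct_pow_cases σ A (c := 1) (one_mul _) (by simpa using h))))))
        · exact Or.inr (Or.inr (Or.inl ((orderOf_dvd_right_mul (p := p) y).trans (mul_dvd_mul_left _
            (hxpow _ (by rw [hy]; exact hermAct_pow_cases σ A (c := 1) (one_mul _) (by simpa using h)))))))
      · have hord : orderOf y = orderOf y.right :=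
          orderOf_eq_of_no_fixed y fun w hw => fixed_trace σ A w (by rwa [hy] at hw) hσt
        have htQ : t ^ (p ^ (e * 2)) = t := by
          letI := Fintype.ofFinite K
          rw [pow_mul, ← hK, Nat.card_eq_fintype_card, FiniteField.pow_card]
        have hQ : p ^ (e * 2) = q ^ 2 := by rw [hq, pow_mul]
        rw [hord]
        by_cases h2 : p = 2
        · rcases quad_dvd_cases htQ h4 with h | h <;> rw [hQ] at h
          · exact Or.inr (Or.inr (Or.inr (Or.inl ⟨h2, Or.inl
              (hxpow _ (by rw [hy]; exact hermAct_pow_cases σ A (c := 1) (one_mul _) (by simpa using h)))⟩)))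
          · exact Or.inr (Or.inr (Or.inr (Or.inl ⟨h2, Or.inr
              (hxpow _ (by rw [hy]; exact hermAct_pow_cases σ A (c := 1) (one_mul _) (by simpa using h)))⟩)))
        · obtain ⟨m, hm, c, hc, hdvd⟩ := quad_dvd_half h2 htQ h4
          have hd := hxpow m (by rw [hy]; exact hermAct_pow_cases σ A hc hdvd)
          rw [hQ] at hm
          rcases hm with rfl | rfl
          · exact Or.inr (Or.inr (Or.inr (Or.inr ⟨h2, Or.inl hd⟩)))
          · exact Or.inr (Or.inr (Or.inr (Or.inr ⟨h2, Or.inr hd⟩)))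
  · -- the outer coset
    set B := A * SpecialLinearGroup.map σ A with hB
    have hsq : y.right.1 * y.right.1 = hermAct σ B := by
      rw [hy, hB, map_mul, mul_assoc, ← mul_assoc trEquiv, trEquiv_mul_hermAct σ (frob_frob hK),
        mul_assoc _ trEquiv, trEquiv_mul_self, mul_one]
    set t := (B : Matrix (Fin 2) (Fin 2) K).trace with ht
    have hσt : σ t = t := by
      have hff : ∀ x, σ (σ x) = x := frob_frob hK
      rw [ht, hB, Matrix.SpecialLinearGroup.coe_mul, trace_fin_two]
      simp [Matrix.mul_apply, Fin.sum_univ_two, hff]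
      ring
    by_cases h4 : t ^ 2 = 4
    · have h3 : (((hermAct σ B).toLinearMap : Module.End K _) - 1) ^ 3 = 0 := hermAct_unipotent σ h4 (h20 h2)
      have h5 : 3 ≤ p - 1 := by
        have := hP.two_le
        have : p ≠ 4 := fun h => absurd (h ▸ hP) (by norm_num)
        omega
      have hs := geom_sum_eq_zero_of_unipotent (p := p) _ h3 h5
      have hTT : (y.right.1.toLinearMap : Module.End K _) * y.right.1.toLinearMap = (hermAct σ B).toLinearMap := by
        rw [← hsq]
        rfl
      have hn : orderOf y ∣ 2 * p := by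
        refine orderOf_dvd_of_norm y ?_ ?_
        · refine Subtype.ext ?_
          rw [SubmonoidClass.coe_pow, pow_mul, sq, hsq]
          apply LinearEquiv.toLinearMap_injective
          have := geom_sum_mul ((hermAct σ B).toLinearMap : Module.End K _) p
          rw [hs, zero_mul, eq_comm, sub_eq_zero] at this
          exact (map_pow (LinearEquiv.automorphismGroup.toLinearMapMonoidHom) _ p).trans this
        · rw [geom_sum_double, hTT, hs, mul_zero]
      obtain ⟨r, hr⟩ : Odd q := (hP.odd_of_ne_two h2).pow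
      exact Or.inr (Or.inl (hn.trans (by
        rw [mul_comm 2 p, show q - 1 = 2 * r by omega]
        exact mul_dvd_mul_left _ (dvd_mul_right _ _))))
    · have htq : t ^ (p ^ e) = t := by rw [← frob_apply]; exact hσt
      obtain ⟨m, hm, c, hc, hdvd⟩ := quad_dvd_half h2 htq h4
      have hd : orderOf y.right ∣ 2 * m := hxpow _ (by
        rw [pow_mul, sq, hsq]; exact hermAct_pow_cases σ B hc hdvd)
      have hfin := (orderOf_dvd_right_mul (p := p) y).trans (mul_dvd_mul_left p hd)
      obtain ⟨r, hr⟩ : Odd q := (hP.odd_of_ne_two h2).pow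
      rcases hm with rfl | rfl
      · rw [show 2 * ((p ^ e - 1) / 2) = q - 1 by omega] at hfin
        exact Or.inr (Or.inl hfin)
      · rw [show 2 * ((p ^ e + 1) / 2) = q + 1 by omega] at hfin
        exact Or.inr (Or.inr (Or.inl hfin))

include hp in
/-- Twins of `PSp(4, q)` for `p ≠ 3`. -/
theorem herm_twin {e : ℕ} (he : e ≠ 0) (hp3 : p ≠ 3) (hK : Nat.card K = (p ^ e) ^ 2) {B : Type*} [Group B]
    [Finite B] (hB : ∀ b : B, Adm p (p ^ e) (orderOf b)) (hB' : ∀ n, Adm p (p ^ e) n → ∃ b : B, n ∣ orderOf b)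
    (N : ℕ) : ∃ (H : Type) (_ : Group H) (_ : Fintype H), N < Fintype.card H ∧
      Set.range (orderOf : H → ℕ) = Set.range (orderOf : B → ℕ) := by
  classical
  letI := Fintype.ofFinite K
  haveI : Finite (Matrix (Fin 2) (Fin 2) K) := Module.finite_of_finite K
  haveI : Finite (Matrix (Fin 2) (Fin 2) K ≃ₗ[K] Matrix (Fin 2) (Fin 2) K) :=
    Finite.of_injective _ DFunLike.coe_injective
  have hP := hp.out
  set σ := frob p K e with hσdef
  set q := p ^ e with hq
  have hσσ : ∀ x, σ (σ x) = x := frob_frob hK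
  let Y : Subgroup (Matrix (Fin 2) (Fin 2) K ≃ₗ[K] Matrix (Fin 2) (Fin 2) K) :=
    if p = 2 then (hermAct σ).range else hermExt σ hσσ
  have hYmem : ∀ A, hermAct σ A ∈ Y := fun A => by
    by_cases h2 : p = 2
    · simp only [Y, if_pos h2]; exact ⟨A, rfl⟩
    · simp only [Y, if_neg h2]; exact ⟨A, Or.inl rfl⟩
  obtain ⟨g, hg⟩ := IsCyclic.exists_ofOrder_eq_natCard (α := Kˣ)
  rw [Nat.card_units, hK] at hg
  have hq1 : 1 < q := Nat.one_lt_pow he hP.one_lt
  have hfac : q ^ 2 - 1 = (q - 1) * (q + 1) := by rw [mul_comm, ← Nat.sq_sub_sq, one_pow]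
  have hord1 : orderOf (g ^ (q + 1)) = q - 1 := by
    rw [orderOf_pow' _ (by omega), hg, hfac, Nat.gcd_eq_right (dvd_mul_left _ _),
      Nat.mul_div_cancel _ (by omega)]
  have hord2 : orderOf (g ^ (q - 1)) = q + 1 := by
    rw [orderOf_pow' _ (by omega), hg, hfac, Nat.gcd_eq_right (dvd_mul_right _ _),
      Nat.mul_div_cancel_left _ (by omega)]
  have hone : ∀ u : Kˣ, u ^ (q ^ 2 - 1) = 1 := fun u => orderOf_dvd_iff_pow_eq_one.1 (by
    have := orderOf_dvd_natCard u
    rwa [Nat.card_units, hK] at this)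
  have hpq : ∀ m, (m = q - 1 ∨ m = q + 1) → Nat.Coprime p m := by
    intro m hm
    rw [hP.coprime_iff_not_dvd]
    intro hd
    have hpq : p ∣ q := dvd_pow_self p he
    have h1 : p ∣ 1 := by
      rcases hm with rfl | rfl
      · have := Nat.dvd_sub hpq hd
        rwa [show q - (q - 1) = 1 by omega] at this
      · exact (Nat.dvd_add_right hpq).1 hd
    exact hP.ne_one (Nat.dvd_one.1 h1)
  -- torus elements
  have torus : ∀ s : SpecialLinearGroup (Fin 2) K, orderOf s ∣ orderOf (⟨hermAct σ s, hYmem s⟩ : Y) * 2 := by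
    intro s
    refine orderOf_dvd_of_pow_eq_one ?_
    rw [pow_mul]
    refine hermAct_sq_kernel σ _ ?_
    rw [map_pow]
    simpa using congrArg Subtype.val (pow_orderOf_eq_one (⟨hermAct σ s, hYmem s⟩ : Y))
  have up : ∀ x : Y, ∀ w : Matrix (Fin 2) (Fin 2) K, w ≠ 0 → x.1 w = w → ∀ m, (m = q - 1 ∨ m = q + 1) →
      m ∣ orderOf x → ∃ y : Multiplicative (Matrix (Fin 2) (Fin 2) K) ⋊[linAct Y] Y, p * m ∣ orderOf y := by
    intro x w hw hfix m hm hd
    refine ⟨⟨Multiplicative.ofAdd w, x⟩, ?_⟩
    rw [orderOf_fixed (p := p) hw hfix]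
    exact (hpq m hm).mul_dvd_of_dvd_of_dvd (Nat.dvd_lcm_left _ _) (hd.trans (Nat.dvd_lcm_right _ _))
  refine exists_twin Y hB hB' ?_ ?_ N
  · intro y
    have hy := y.right.2
    by_cases h2 : p = 2
    · simp only [Y, if_pos h2] at hy
      obtain ⟨A, hA⟩ := hy
      exact adm_of_hermAct he hp3 hK Y y A (Or.inl hA.symm)
    · simp only [Y, if_neg h2] at hy
      obtain ⟨A, hA | hA⟩ := hy
      · exact adm_of_hermAct he hp3 hK Y y A (Or.inl hA)
      · exact adm_of_hermAct he hp3 hK Y y A (Or.inr ⟨h2, hA⟩)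
  · intro n hn
    obtain ⟨⟨s, hs⟩, ⟨t, ht⟩⟩ := CfsgLib.KnownSimple.exists_sl2_orderOf (F := K)
    rw [← Nat.card_eq_fintype_card, hK] at hs ht
    by_cases h2 : p = 2
    · have hevq : Even q := by rw [hq, h2]; simp [Nat.even_pow, he]
      have strip : ∀ (m : ℕ) (x : Y), Odd m → m ∣ orderOf x * 2 → m ∣ orderOf x := fun m x hm h =>
        (Nat.Coprime.dvd_mul_right (Nat.coprime_two_right.2 hm)).1 h
      have hsqodd : Odd (q ^ 2 - 1) ∧ Odd (q ^ 2 + 1) := by
        obtain ⟨k, hk⟩ : Even (q ^ 2) := by simp [Nat.even_pow, hevq]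
        have : 1 ≤ q ^ 2 := Nat.one_le_pow _ _ (by omega)
        exact ⟨⟨k - 1, by omega⟩, ⟨k, by omega⟩⟩
      have hodd : Odd (q - 1) ∧ Odd (q + 1) := by
        obtain ⟨k, hk⟩ := hevq
        exact ⟨⟨k - 1, by omega⟩, ⟨k, by omega⟩⟩
      rcases hn with ⟨hn, h3⟩ | hn | hn | ⟨-, hn | hn⟩ | ⟨h, -⟩
      · let x : Y := ⟨hermAct σ (sl2Shear 1), hYmem _⟩
        let w : Matrix (Fin 2) (Fin 2) K := Matrix.single 1 1 1
        refine ⟨⟨Multiplicative.ofAdd w, x⟩, hn.trans ?_⟩
        haveI : Fact (Nat.Prime 2) := ⟨Nat.prime_two⟩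
        haveI : CharP K 2 := h2 ▸ ‹CharP K p›
        have hx2 : x ^ 2 = 1 := Subtype.ext (by
          show hermAct σ (sl2Shear 1) ^ 2 = 1
          have h := pow_orderOf_eq_one (sl2Shear (1 : K))
          rw [sl2_orderOf_shear] at h
          rw [← map_pow, h, map_one])
        have h := orderOf_eq_prime_pow (p := 2) (n := 1)
          (x := (⟨Multiplicative.ofAdd w, x⟩ : Multiplicative (Matrix (Fin 2) (Fin 2) K) ⋊[linAct Y] Y)) ?_ ?_
        · rw [h, h2]
        · intro hh
          have h00 := congrArg (fun z => z.left.toAdd 0 0) hh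
          have hsh : ((sl2Shear (1 : K) : SpecialLinearGroup (Fin 2) K) : Matrix (Fin 2) (Fin 2) K) = !![1, 1; 0, 1] := rfl
          simp [pow_left, x, w, hermAct_apply, Finset.sum_range_succ, Matrix.mul_apply, Fin.sum_univ_two, hsh,
            Matrix.single, Matrix.vecHead, Matrix.vecTail, Matrix.vecMul, dotProduct] at h00
        · rw [← orderOf_dvd_iff_pow_eq_one]
          haveI : CharP K p := h2.symm ▸ ‹CharP K 2›
          refine (orderOf_dvd_right_mul (p := p) _).trans ?_
          rw [h2, pow_succ, pow_one]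
          exact mul_dvd_mul_left _ (orderOf_dvd_of_pow_eq_one hx2)
      · let x : Y := ⟨hermAct σ (dg (g ^ (q + 1))), hYmem _⟩
        have hw : x.1 (Matrix.single 0 1 1) = (Matrix.single 0 1 1) := by
          show hermAct σ (dg (g ^ (q + 1))) (Matrix.single 0 1 1) = Matrix.single 0 1 1
          have hfix : σ ((g ^ (q + 1) : Kˣ) : K) = (g ^ (q + 1) : Kˣ) := by
            rw [frob_apply, ← Units.val_pow_eq_pow_val, ← pow_mul, show (q + 1) * p ^ e = (q ^ 2 - 1) + (q + 1) by
              rw [← hq]; nlinarith [Nat.sub_add_cancel (Nat.one_le_pow 2 q (by omega))], pow_add, hone, one_mul]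
          rw [hermAct_dg, hfix]
          ext i j
          fin_cases i <;> fin_cases j <;> simp [Matrix.single]
        obtain ⟨y, hy⟩ := up x (Matrix.single 0 1 1)
          (fun h => by simpa [Matrix.single] using congrFun (congrFun h 0) 1) hw _ (Or.inl rfl)
          (strip _ x hodd.1 (by have := torus (dg (g ^ (q + 1))); rwa [orderOf_injective _ dg_injective, hord1] at this))
        exact ⟨y, hn.trans hy⟩
      · let x : Y := ⟨hermAct σ (dg (g ^ (q - 1))), hYmem _⟩
        have hw : x.1 (Matrix.single 0 0 1) = (Matrix.single 0 0 1) := by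
          show hermAct σ (dg (g ^ (q - 1))) (Matrix.single 0 0 1) = Matrix.single 0 0 1
          have hfix : ((g ^ (q - 1) : Kˣ) : K) * σ ((g ^ (q - 1) : Kˣ) : K) = 1 := by
            rw [frob_apply, ← pow_succ', ← hq, ← Units.val_pow_eq_pow_val, ← pow_mul, ← hfac, hone, Units.val_one]
          rw [hermAct_dg, hfix]
          ext i j
          fin_cases i <;> fin_cases j <;> simp [Matrix.single]
        obtain ⟨y, hy⟩ := up x (Matrix.single 0 0 1)
          (fun h => by simpa [Matrix.single] using congrFun (congrFun h 0) 0) hw _ (Or.inr rfl)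
          (strip _ x hodd.2 (by have := torus (dg (g ^ (q - 1))); rwa [orderOf_injective _ dg_injective, hord2] at this))
        exact ⟨y, hn.trans hy⟩
      · exact ⟨SemidirectProduct.inr ⟨_, hYmem s⟩, hn.trans (by
          rw [orderOf_injective _ SemidirectProduct.inr_injective]
          exact strip _ _ hsqodd.1 (hs ▸ torus s))⟩
      · exact ⟨SemidirectProduct.inr ⟨_, hYmem t⟩, hn.trans (by
          rw [orderOf_injective _ SemidirectProduct.inr_injective]
          exact strip _ _ hsqodd.2 (ht ▸ torus t))⟩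
      · exact absurd h2 h
    · obtain ⟨r, hr⟩ : Odd q := (hP.odd_of_ne_two h2).pow
      have hYtr : ∀ A, hermAct σ A * trEquiv ∈ Y := fun A => by
        simp only [Y, if_neg h2]; exact ⟨A, Or.inr rfl⟩
      have coset : ∀ A : SpecialLinearGroup (Fin 2) K,
          orderOf (A * SpecialLinearGroup.map σ A) ∣ orderOf (⟨_, hYtr A⟩ : Y) := by
        intro A
        set x : Y := ⟨_, hYtr A⟩
        have hsq : x.1 * x.1 = hermAct σ (A * SpecialLinearGroup.map σ A) := by
          show hermAct σ A * trEquiv * (hermAct σ A * trEquiv) = _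
          rw [map_mul, mul_assoc, ← mul_assoc trEquiv, trEquiv_mul_hermAct σ hσσ, mul_assoc _ trEquiv,
            trEquiv_mul_self, mul_one]
        have hk : x.1 ^ orderOf x = 1 :=
          (SubmonoidClass.coe_pow x _).symm.trans (congrArg Subtype.val (pow_orderOf_eq_one x))
        rcases Nat.even_or_odd (orderOf x) with ⟨j, hj⟩ | ⟨j, hj⟩
        · refine orderOf_dvd_of_pow_eq_one ?_
          rw [hj, ← two_mul, mul_comm, pow_mul]
          refine hermAct_sq_kernel σ _ ?_
          rw [map_pow, ← hsq, ← sq, ← pow_mul, two_mul, ← hj, hk]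
        · exfalso
          rw [hj, pow_succ, pow_mul, sq, hsq, ← map_pow] at hk
          refine hermAct_ne_trEquiv σ ((A * SpecialLinearGroup.map σ A) ^ j * A) ?_
          rw [map_mul]
          have h := congrArg (fun z => z * trEquiv) hk
          simpa [x, mul_assoc, trEquiv_mul_self] using h
      rcases hn with ⟨-, h3⟩ | hn | hn | ⟨h, -⟩ | ⟨-, hn | hn⟩
      · exact absurd (Nat.le_antisymm h3 (by have := hP.two_le; omega)) hp3
      · let A : SpecialLinearGroup (Fin 2) K := dg g
        have hB : A * SpecialLinearGroup.map σ A = dg (g ^ (q + 1)) := by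
          rw [pow_succ', map_mul]
          congr 1
          apply Subtype.ext
          ext i j
          fin_cases i <;> fin_cases j <;>
            simp [A, dg_coe, frob_apply, hσdef, hq, -map_pow, hP.ne_zero]
        have hw : (⟨_, hYtr A⟩ : Y).1 (Matrix.single 0 1 1 + Matrix.single 1 0 ((g : K) ^ (q - 1))) = (Matrix.single 0 1 1 + Matrix.single 1 0 ((g : K) ^ (q - 1))) := by
          show hermAct σ A ((Matrix.single 0 1 1 + Matrix.single 1 0 ((g : K) ^ (q - 1))))ᵀ = _
          have hg0 : (g : K) ≠ 0 := g.ne_zero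
          have hpow : (g : K) ^ q = (g : K) ^ (q - 1) * g := by
            rw [← pow_succ, Nat.sub_add_cancel (by omega)]
          rw [hermAct_dg, hσdef, frob_apply, ← hq]
          ext i j
          fin_cases i <;> fin_cases j <;> simp [Matrix.single, hpow] <;> field_simp
        obtain ⟨y, hy⟩ := up (⟨_, hYtr A⟩ : Y) (Matrix.single 0 1 1 + Matrix.single 1 0 ((g : K) ^ (q - 1))) (fun h => by simpa [Matrix.single] using congrFun (congrFun h 0) 1) hw _
          (Or.inl rfl) (by have := coset A; rwa [hB, orderOf_injective _ dg_injective, hord1] at this)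
        exact ⟨y, hn.trans hy⟩
      · let u : Kˣ := (g ^ (1 + (r + 1)))⁻¹
        let A : SpecialLinearGroup (Fin 2) K := aw u
        have hB : A * SpecialLinearGroup.map σ A = dg (g ^ (q - 1)) := by
          have key : -((u : K) * ((u : K) ^ q)⁻¹) = ((g ^ (q - 1) : Kˣ) : K) := by
            have hhalf : (g : K) ^ ((r + 1) * (q - 1)) = -1 := by
              have h2K : ((g : K) ^ ((r + 1) * (q - 1))) ^ 2 = 1 := by
                rw [← pow_mul, show (r + 1) * (q - 1) * 2 = q ^ 2 - 1 by rw [hfac, show q + 1 = (r + 1) * 2 by omega]; ring,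
                  ← Units.val_pow_eq_pow_val, hone, Units.val_one]
              rcases sq_eq_one_iff.1 h2K with h | h
              · exfalso
                rw [← Units.val_pow_eq_pow_val, Units.val_eq_one, ← orderOf_dvd_iff_pow_eq_one, hg, hfac,
                  mul_comm (q - 1)] at h
                have h' := Nat.le_of_dvd (by omega) (Nat.dvd_of_mul_dvd_mul_right (by omega) h)
                omega
              · exact h
            have hu : (u : K) = ((g : K) ^ (1 + (r + 1)))⁻¹ := by simp [u]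
            rw [hu, inv_pow, inv_inv, Units.val_pow_eq_pow_val]
            have hg0 : (g : K) ≠ 0 := g.ne_zero
            rw [← pow_mul, show (1 + (r + 1)) * q = (1 + (r + 1)) + ((q - 1) + (r + 1) * (q - 1)) by
              obtain ⟨k, hk⟩ : ∃ k, q = k + 1 := ⟨q - 1, by omega⟩
              rw [hk, Nat.add_sub_cancel]; ring, pow_add (g : K) (1 + (r + 1)), pow_add (g : K) (q - 1), hhalf]
            field_simp
          apply Subtype.ext
          ext i j
          fin_cases i <;> fin_cases j <;>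
            simp [A, Matrix.mul_apply, Fin.sum_univ_two, hσdef, frob_apply, ← hq, Odd.neg_pow ⟨r, hr⟩,
              show q ≠ 0 by omega, -map_pow]
          · simpa using key
          · rw [← Units.val_pow_eq_pow_val g, ← key]
            field_simp
        have hw : (⟨_, hYtr A⟩ : Y).1 (Matrix.single 0 0 1 + Matrix.single 1 1 ((u : K) * (u : K) ^ q)⁻¹) = (Matrix.single 0 0 1 + Matrix.single 1 1 ((u : K) * (u : K) ^ q)⁻¹) := by
          show hermAct σ A ((Matrix.single 0 0 1 + Matrix.single 1 1 ((u : K) * (u : K) ^ q)⁻¹))ᵀ = _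
          rw [hermAct_aw, hσdef, frob_apply, ← hq]
          ext i j
          fin_cases i <;> fin_cases j <;> simp [Matrix.single] <;> field_simp
        obtain ⟨y, hy⟩ := up (⟨_, hYtr A⟩ : Y) (Matrix.single 0 0 1 + Matrix.single 1 1 ((u : K) * (u : K) ^ q)⁻¹) (fun h => by simpa [Matrix.single] using congrFun (congrFun h 0) 0) hw _
          (Or.inr rfl) (by have := coset A; rwa [hB, orderOf_injective _ dg_injective, hord2] at this)
        exact ⟨y, hn.trans hy⟩
      · exact absurd h h2
      · refine ⟨SemidirectProduct.inr ⟨_, hYmem s⟩, hn.trans ?_⟩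
        rw [orderOf_injective _ SemidirectProduct.inr_injective]
        obtain ⟨k, hk⟩ : Odd (q ^ 2) := Odd.pow ⟨r, hr⟩
        have := hs ▸ torus s
        rw [show q ^ 2 - 1 = (q ^ 2 - 1) / 2 * 2 by omega] at this
        exact Nat.dvd_of_mul_dvd_mul_right (by norm_num) this
      · refine ⟨SemidirectProduct.inr ⟨_, hYmem t⟩, hn.trans ?_⟩
        rw [orderOf_injective _ SemidirectProduct.inr_injective]
        obtain ⟨k, hk⟩ : Odd (q ^ 2) := Odd.pow ⟨r, hr⟩
        have := ht ▸ torus t
        rw [show q ^ 2 + 1 = (q ^ 2 + 1) / 2 * 2 by omega] at this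
        exact Nat.dvd_of_mul_dvd_mul_right (by norm_num) this

end Field

end CfsgLib.SpFourTwins
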