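/-
The sixteen-dimensional twisted tensor module of `SL(2, q²)`: isospectral extensions for `PSp(4, q)` when
`q` is an even power of 3.
-/
import Cfsg.Agent.Lib.Spectrum.SpFourTwins.Herm

set_option autoImplicit false

namespace CfsgLib.SpFourTwins

open Matrix Polynomial CfsgLib.Spectrum

open scoped Kronecker

variable {K : Type*} [Field K]

/-- The Kronecker product of two representations by matrices. -/
def kronHom {G : Type*} [Group G] (f g : G →* Matrix (Fin 2) (Fin 2) K) :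
    G →* Matrix (Fin 2 × Fin 2) (Fin 2 × Fin 2) K where
  toFun A := f A ⊗ₖ g A
  map_one' := by rw [map_one, map_one, one_kronecker_one]
  map_mul' A B := by rw [map_mul, map_mul, mul_kronecker_mul]

variable (τ σ : K →+* K)

/-- The action on `N ⊗ N^τ ⊗ N^σ ⊗ N^σ`, written on square matrices. -/
def tensAct : SpecialLinearGroup (Fin 2) K →*
    (Matrix (Fin 2 × Fin 2) (Fin 2 × Fin 2) K ≃ₗ[K] Matrix (Fin 2 × Fin 2) (Fin 2 × Fin 2) K) :=
  sandwich (kronHom slMat (slMat.comp (SpecialLinearGroup.map τ)))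
    (kronHom (slMat.comp (SpecialLinearGroup.map σ)) (slMat.comp (SpecialLinearGroup.map σ)))

lemma tensAct_apply (A : SpecialLinearGroup (Fin 2) K) (M : Matrix (Fin 2 × Fin 2) (Fin 2 × Fin 2) K) :
    tensAct τ σ A M = ((A : Matrix (Fin 2) (Fin 2) K) ⊗ₖ (A : Matrix (Fin 2) (Fin 2) K).map τ) * M *
      ((A : Matrix (Fin 2) (Fin 2) K).map σ ⊗ₖ (A : Matrix (Fin 2) (Fin 2) K).map σ)ᵀ := rfl

lemma tensAct_single (A : SpecialLinearGroup (Fin 2) K) (i j a b : Fin 2 × Fin 2) :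
    tensAct τ σ A (Matrix.single i j 1) a b =
      A.1 a.1 i.1 * τ (A.1 a.2 i.2) * (σ (A.1 b.1 j.1) * σ (A.1 b.2 j.2)) := by
  rw [tensAct_apply, Matrix.mul_apply, Finset.sum_eq_single j, Matrix.mul_apply, Finset.sum_eq_single i]
  · simp [Matrix.single]
  · intro k _ hk
    simp [Matrix.single, Ne.symm hk]
  · simp
  · intro k _ hk
    rw [Matrix.mul_apply, Finset.sum_eq_zero fun l _ => ?_, zero_mul]
    simp [Matrix.single, Ne.symm hk]
  · simp

lemma tensAct_sq_kernel (A : SpecialLinearGroup (Fin 2) K) (h : tensAct τ σ A = 1) : A ^ 2 = 1 := by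
  have e : ∀ i j a b : Fin 2 × Fin 2, A.1 a.1 i.1 * τ (A.1 a.2 i.2) * (σ (A.1 b.1 j.1) * σ (A.1 b.2 j.2)) =
      (Matrix.single i j (1 : K)) a b := fun i j a b => by
    rw [← tensAct_single, h]; rfl
  have h10 : A.1 1 0 = 0 := by simpa [Matrix.single] using e (0, 0) (0, 0) (1, 1) (1, 1)
  have h01 : A.1 0 1 = 0 := by simpa [Matrix.single] using e (1, 1) (1, 1) (0, 0) (0, 0)
  have h1 : A.1 0 0 * τ (A.1 0 0) * (σ (A.1 0 0) * σ (A.1 0 0)) = 1 := by
    simpa [Matrix.single] using e (0, 0) (0, 0) (0, 0) (0, 0)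
  have h2 : A.1 1 1 * τ (A.1 0 0) * (σ (A.1 0 0) * σ (A.1 0 0)) = 1 := by
    simpa [Matrix.single] using e (1, 0) (0, 0) (1, 0) (0, 0)
  have heq : A.1 0 0 = A.1 1 1 := by
    have h3 := h1.trans h2.symm
    rw [mul_assoc, mul_assoc] at h3
    refine mul_right_cancel₀ ?_ h3
    intro hz
    rw [mul_assoc, hz, mul_zero] at h1
    exact zero_ne_one h1
  have hd := A.2
  rw [det_fin_two, h10, h01, mul_zero, sub_zero, heq] at hd
  apply Subtype.ext
  ext i j
  fin_cases i <;> fin_cases j <;>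
    simp [sq, Matrix.mul_apply, Fin.sum_univ_two, h10, h01, heq, hd]

lemma tensAct_dg_single (u : Kˣ) (i j : Fin 2 × Fin 2) (c : K)
    (hc : c = (dg u).1 i.1 i.1 * τ ((dg u).1 i.2 i.2) * (σ ((dg u).1 j.1 j.1) * σ ((dg u).1 j.2 j.2))) :
    tensAct τ σ (dg u) (Matrix.single i j 1) = Matrix.single i j c := by
  ext a b
  rw [tensAct_single, hc]
  obtain ⟨i₁, i₂⟩ := i
  obtain ⟨j₁, j₂⟩ := j
  obtain ⟨a₁, a₂⟩ := a
  obtain ⟨b₁, b₂⟩ := b
  fin_cases i₁ <;> fin_cases i₂ <;> fin_cases j₁ <;> fin_cases j₂ <;> fin_cases a₁ <;> fin_cases a₂ <;>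
    fin_cases b₁ <;> fin_cases b₂ <;> simp [dg_coe, Matrix.single]

lemma tensAct_pow_cases (hτ : ∀ c : K, c * c = 1 → τ c = c) (hσ : ∀ c : K, c * c = 1 → σ c = c)
    (A : SpecialLinearGroup (Fin 2) K) {m : ℕ} {c : K} (hc : c * c = 1)
    (h : quad (A : Matrix (Fin 2) (Fin 2) K).trace ∣ Polynomial.X ^ m - Polynomial.C c) :
    tensAct τ σ A ^ m = 1 := by
  rw [← map_pow]
  refine LinearEquiv.ext fun M => ?_
  rw [tensAct_apply, pow_eq_of_quad_dvd h]
  simp [Matrix.map_smul', Matrix.map_one τ (map_zero τ) (map_one τ), Matrix.map_one σ (map_zero σ) (map_one σ),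
    hτ c hc, hσ c hc, smul_kronecker, kronecker_smul, smul_smul, hc, mul_assoc]

/-- The idempotent onto one eigenspace. -/
def eigProj {L : Type*} [Field L] (a : Matrix (Fin 2) (Fin 2) L) (r s : L) : Matrix (Fin 2) (Fin 2) L :=
  (r - s)⁻¹ • (a - s • 1)

lemma eigProj_map {L : Type*} [Field L] (ψ : L →+* L) (a : Matrix (Fin 2) (Fin 2) L) (r s : L) :
    (eigProj a r s).map ψ = eigProj (a.map ψ) (ψ r) (ψ s) := by
  ext i j
  simp [eigProj, Matrix.one_apply, apply_ite ψ]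

lemma eigProj_add {L : Type*} [Field L] (a : Matrix (Fin 2) (Fin 2) L) {r s : L} (h : r ≠ s) :
    eigProj a r s + eigProj a s r = 1 := by
  rw [eigProj, eigProj, ← neg_sub r s, inv_neg, neg_smul, ← sub_eq_add_neg, ← smul_sub,
    show a - s • (1 : Matrix (Fin 2) (Fin 2) L) - (a - r • 1) = (r - s) • 1 by rw [sub_smul]; abel,
    smul_smul, inv_mul_cancel₀ (sub_ne_zero.2 h), one_smul]

lemma mul_eigProj {L : Type*} [Field L] (a : Matrix (Fin 2) (Fin 2) L) {r s : L}
    (h : a * a = (r + s) • a - (r * s) • 1) :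
    a * eigProj a r s = r • eigProj a r s ∧ eigProj a r s * a = r • eigProj a r s := by
  constructor <;>
  · simp only [eigProj, mul_smul_comm, smul_mul_assoc, mul_sub, sub_mul, h, mul_one, one_mul]
    module

/-- A fixed vector forces a relation between the eigenvalues. -/
lemma tensAct_fixed {L : Type*} [Field L] (φ : K →+* L) (τ' σ' : L →+* L) (hτ : ∀ x, τ' (φ x) = φ (τ x))
    (hσ : ∀ x, σ' (φ x) = φ (σ x)) (A : SpecialLinearGroup (Fin 2) K) (M : Matrix (Fin 2 × Fin 2) (Fin 2 × Fin 2) K)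
    (hM : tensAct τ σ A M = M) {ρ : L} (hρ : ρ ^ 2 - φ (A : Matrix (Fin 2) (Fin 2) K).trace * ρ + 1 = 0)
    (hne : ρ ≠ ρ⁻¹)
    (hw : ∀ ri rj rk rl : L, (ri = ρ ∨ ri = ρ⁻¹) → (rj = ρ ∨ rj = ρ⁻¹) → (rk = ρ ∨ rk = ρ⁻¹) →
      (rl = ρ ∨ rl = ρ⁻¹) → ri * τ' rj * (σ' rk * σ' rl) ≠ 1) : M = 0 := by
  set t := (A : Matrix (Fin 2) (Fin 2) K).trace with ht
  obtain ⟨h0, hi⟩ := isRoot_inv hρ
  set a : Matrix (Fin 2) (Fin 2) L := (A : Matrix (Fin 2) (Fin 2) K).map φ with ha
  have hsum : ρ + ρ⁻¹ = φ t := by rw [← hi]; ring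
  have haa : a * a = (ρ + ρ⁻¹) • a - (ρ * ρ⁻¹) • 1 := by
    rw [hsum, mul_inv_cancel₀ h0, one_smul, ha, ← Matrix.map_mul, sl2_mul_self,
      Matrix.map_sub _ (map_sub φ), Matrix.map_one φ (map_zero φ) (map_one φ)]
    congr 1
    ext i j
    simp [← ht]
  let r : Fin 2 → L := ![ρ, ρ⁻¹]
  let E : Fin 2 → Matrix (Fin 2) (Fin 2) L := ![eigProj a ρ ρ⁻¹, eigProj a ρ⁻¹ ρ]
  have hE : ∀ i, a * E i = r i • E i ∧ E i * a = r i • E i := by
    intro i
    fin_cases i
    · exact mul_eigProj a haa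
    · exact mul_eigProj a (by rw [add_comm ρ⁻¹, mul_comm ρ⁻¹]; exact haa)
  have hEsum : ∑ i, E i = 1 := by rw [Fin.sum_univ_two]; exact eigProj_add a hne
  have hEψ : ∀ (ψ : L →+* L) i, a.map ψ * (E i).map ψ = ψ (r i) • (E i).map ψ ∧
      (E i).map ψ * a.map ψ = ψ (r i) • (E i).map ψ := by
    intro ψ i
    have hs : ∀ (c : L) (X : Matrix (Fin 2) (Fin 2) L), (c • X).map ψ = ψ c • X.map ψ := fun c X => by
      ext k l; simp
    exact ⟨by rw [← Matrix.map_mul, (hE i).1, hs], by rw [← Matrix.map_mul, (hE i).2, hs]⟩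
  have hEψsum : ∀ ψ : L →+* L, ∑ i, (E i).map ψ = 1 := by
    intro ψ
    rw [Fin.sum_univ_two, ← Matrix.map_add _ (map_add ψ), ← Fin.sum_univ_two E, hEsum,
      Matrix.map_one ψ (map_zero ψ) (map_one ψ)]
  set C : Matrix (Fin 2 × Fin 2) (Fin 2 × Fin 2) L := a ⊗ₖ a.map τ' with hC
  set D : Matrix (Fin 2 × Fin 2) (Fin 2 × Fin 2) L := (a.map σ' ⊗ₖ a.map σ')ᵀ with hD
  set M' : Matrix (Fin 2 × Fin 2) (Fin 2 × Fin 2) L := M.map φ with hM'
  have hfix : C * M' * D = M' := by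
    have h := congrArg (fun Z => Z.map φ) hM
    rw [tensAct_apply, Matrix.map_mul, Matrix.map_mul] at h
    have eC : ((A : Matrix (Fin 2) (Fin 2) K) ⊗ₖ (A : Matrix (Fin 2) (Fin 2) K).map τ).map φ = C := by
      ext i j
      simp [hC, ha, hτ]
    have eD : ((A : Matrix (Fin 2) (Fin 2) K).map σ ⊗ₖ (A : Matrix (Fin 2) (Fin 2) K).map σ)ᵀ.map φ = D := by
      ext i j
      simp [hD, ha, hσ]
    rwa [eC, eD] at h
  have hterm : ∀ i j k l, (E i ⊗ₖ (E j).map τ') * M' * ((E k).map σ' ⊗ₖ (E l).map σ')ᵀ = 0 := by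
    intro i j k l
    set P := E i ⊗ₖ (E j).map τ' with hP
    set R := ((E k).map σ' ⊗ₖ (E l).map σ')ᵀ with hR
    have hPC : P * C = (r i * τ' (r j)) • P := by
      rw [hP, hC, ← mul_kronecker_mul, (hE i).2, (hEψ τ' j).2, smul_kronecker, kronecker_smul, smul_smul]
    have hDR : D * R = (σ' (r k) * σ' (r l)) • R := by
      rw [hR, hD, ← transpose_mul, ← mul_kronecker_mul, (hEψ σ' k).2, (hEψ σ' l).2, smul_kronecker, kronecker_smul,
        smul_smul, transpose_smul]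
    have h : P * M' * R = (r i * τ' (r j) * (σ' (r k) * σ' (r l))) • (P * M' * R) := by
      conv_lhs => rw [← hfix]
      rw [show P * (C * M' * D) * R = (P * C) * M' * (D * R) by simp only [Matrix.mul_assoc], hPC, hDR,
        smul_mul_assoc, smul_mul_assoc, mul_smul_comm, smul_smul]
    have hr : ∀ i, r i = ρ ∨ r i = ρ⁻¹ := fun i => by fin_cases i <;> simp [r]
    by_contra hne'
    refine hw _ _ _ _ (hr i) (hr j) (hr k) (hr l) ?_
    have h' : (1 - r i * τ' (r j) * (σ' (r k) * σ' (r l))) • (P * M' * R) = 0 := by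
      rw [sub_smul, one_smul, ← h, sub_self]
    exact (sub_eq_zero.1 ((smul_eq_zero.1 h').resolve_right hne')).symm
  have hz : M' = 0 := by
    have e1 : (∑ i, ∑ j, E i ⊗ₖ (E j).map τ') = 1 := by
      rw [Fin.sum_univ_two, Fin.sum_univ_two, Fin.sum_univ_two, ← kronecker_add, ← kronecker_add, ← add_kronecker,
        ← Fin.sum_univ_two E, ← Fin.sum_univ_two (fun j => (E j).map τ'), hEsum, hEψsum, one_kronecker_one]
    have e2 : (∑ k, ∑ l, ((E k).map σ' ⊗ₖ (E l).map σ')ᵀ) = 1 := by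
      simp only [← transpose_sum]
      rw [Fin.sum_univ_two, Fin.sum_univ_two, Fin.sum_univ_two, ← kronecker_add, ← kronecker_add, ← add_kronecker,
        ← Fin.sum_univ_two (fun j => (E j).map σ'), hEψsum, one_kronecker_one, transpose_one]
    calc M' = (∑ i, ∑ j, E i ⊗ₖ (E j).map τ') * M' * (∑ k, ∑ l, ((E k).map σ' ⊗ₖ (E l).map σ')ᵀ) := by
          rw [e1, e2, Matrix.one_mul, Matrix.mul_one]
      _ = 0 := by simp only [Finset.sum_mul, Finset.mul_sum, hterm, Finset.sum_const_zero]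
  ext i j
  have := congrFun (congrFun hz i) j
  simpa [hM'] using this

section Field

variable {p : ℕ} [hp : Fact p.Prime] [Finite K] [CharP K p]

omit [Finite K] in
lemma frob_unit_sign {k : ℕ} (c : K) (h : c * c = 1) : frob p K k c = c := by
  rcases mul_self_eq_one_iff.1 h with rfl | rfl <;> simp

/-- The exponent arithmetic of the weights. -/
lemma weight_arith {o : ℕ} {q : ℕ} (hq3 : 3 ∣ q) (hq5 : q ^ 2 % 5 = 1) (hQ : o ∣ q ^ 2 - 1 ∨ o ∣ q ^ 2 + 1)
    {s₁ s₂ s₃ s₄ : ℤ} (h₁ : s₁ = 1 ∨ s₁ = -1) (h₂ : s₂ = 1 ∨ s₂ = -1) (h₃ : s₃ = 1 ∨ s₃ = -1)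
    (h₄ : s₄ = 1 ∨ s₄ = -1) (hm : (o : ℤ) ∣ s₁ + 3 * s₂ + (q : ℤ) * (s₃ + s₄)) :
    o ∣ 4 ∨ o ∣ 2 * (q - 1) ∨ o ∣ 2 * (q + 1) := by
  have hq0 : 1 ≤ q := by
    rcases Nat.eq_zero_or_pos q with rfl | h
    · simp at hq5
    · exact h
  have hQ' : (o : ℤ) ∣ (q : ℤ) ^ 2 - 1 ∨ (o : ℤ) ∣ (q : ℤ) ^ 2 + 1 := by
    have h1 : 1 ≤ q ^ 2 := Nat.one_le_pow _ _ hq0
    rcases hQ with h | h
    · left
      have := Int.natCast_dvd_natCast.2 h
      push_cast [h1] at this
      exact this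
    · right
      exact_mod_cast h
  have h2a : (o : ℤ) ∣ 2 * ((q : ℤ) - 1) → o ∣ 2 * (q - 1) := fun h => by
    rw [← Int.natCast_dvd_natCast]
    push_cast [hq0]
    exact h
  have h2b : (o : ℤ) ∣ 2 * ((q : ℤ) + 1) → o ∣ 2 * (q + 1) := fun h => by
    rw [← Int.natCast_dvd_natCast]
    push_cast
    exact h
  have h4 : ∀ ε : ℤ, (ε = 1 ∨ ε = -1) → (o : ℤ) ∣ 2 * q + 4 * ε → o ∣ 4 := by
    intro ε hε h
    have hprod : (o : ℤ) ∣ (2 * q + 4 * ε) * (2 * q - 4 * ε) := dvd_mul_of_dvd_left h _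
    have hε2 : ε * ε = 1 := by rcases hε with rfl | rfl <;> norm_num
    have hco3 : o.Coprime 3 := by
      rw [Nat.coprime_comm, Nat.prime_three.coprime_iff_not_dvd]
      intro h3
      rcases hQ with hh | hh
      · have h1 := h3.trans hh
        have h2 : 3 ∣ q ^ 2 := dvd_pow hq3 two_ne_zero
        have h3' := Nat.dvd_sub h2 h1
        have : 1 ≤ q ^ 2 := Nat.one_le_pow _ _ hq0
        rw [show q ^ 2 - (q ^ 2 - 1) = 1 by omega] at h3'
        norm_num at h3'
      · have := (Nat.dvd_add_right (dvd_pow hq3 two_ne_zero)).1 (h3.trans hh)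
        norm_num at this
    rcases hQ' with hh | hh
    · have h12 : (o : ℤ) ∣ 12 := by
        have := (hh.mul_left 4).sub hprod
        rwa [show 4 * ((q : ℤ) ^ 2 - 1) - (2 * q + 4 * ε) * (2 * q - 4 * ε) = 12 by linear_combination 16 * hε2] at this
      exact hco3.dvd_of_dvd_mul_right (by exact_mod_cast h12 : o ∣ 4 * 3)
    · have h20 : (o : ℤ) ∣ 20 := by
        have := (hh.mul_left 4).sub hprod
        rwa [show 4 * ((q : ℤ) ^ 2 + 1) - (2 * q + 4 * ε) * (2 * q - 4 * ε) = 20 by linear_combination 16 * hε2] at this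
      have hh' : o ∣ q ^ 2 + 1 := by exact_mod_cast hh
      have hco5 : o.Coprime 5 := by
        rw [Nat.coprime_comm, (show Nat.Prime 5 by norm_num).coprime_iff_not_dvd]
        intro h5
        have := Nat.mod_eq_zero_of_dvd (h5.trans hh')
        omega
      exact hco5.dvd_of_dvd_mul_right (by exact_mod_cast h20 : o ∣ 4 * 5)
  obtain ⟨ε, hε, ha⟩ : ∃ ε : ℤ, (ε = 1 ∨ ε = -1) ∧ (s₁ + 3 * s₂ = 4 * ε ∨ s₁ + 3 * s₂ = 2 * ε) := by
    refine ⟨s₂, h₂, ?_⟩
    rcases h₁ with rfl | rfl <;> rcases h₂ with rfl | rfl <;> norm_num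
  rcases (show s₃ + s₄ = 0 ∨ s₃ + s₄ = 2 * 1 ∨ s₃ + s₄ = 2 * -1 by
    rcases h₃ with rfl | rfl <;> rcases h₄ with rfl | rfl <;> norm_num) with hb | hb | hb
  · left
    rw [hb, mul_zero, add_zero] at hm
    rw [← Int.natCast_dvd_natCast]
    refine hm.trans ?_
    rcases ha with ha | ha <;> rw [ha] <;> rcases hε with rfl | rfl <;> norm_num
  all_goals
    rcases ha with ha | ha <;> rw [ha, hb] at hm
  · exact Or.inl (h4 ε hε (by convert hm using 1; ring))
  · rcases hε with rfl | rfl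
    · exact Or.inr (Or.inr (h2b (by convert hm using 1; ring)))
    · exact Or.inr (Or.inl (h2a (by convert hm using 1; ring)))
  · refine Or.inl (h4 (-ε) (by rcases hε with rfl | rfl <;> norm_num) ?_)
    obtain ⟨c, hc⟩ := hm
    exact ⟨-c, by linear_combination -hc⟩
  · rcases hε with rfl | rfl
    · refine Or.inr (Or.inl (h2a ?_))
      obtain ⟨c, hc⟩ := hm
      exact ⟨-c, by linear_combination -hc⟩
    · refine Or.inr (Or.inr (h2b ?_))
      obtain ⟨c, hc⟩ := hm
      exact ⟨-c, by linear_combination -hc⟩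

include hp in
/-- The semidirect products built on the tensor action have admissible element orders. -/
lemma adm_of_tensAct {e : ℕ} (he : e ≠ 0) (heven : Even e) (hp3 : p = 3) (hK : Nat.card K = (p ^ e) ^ 2)
    (X : Subgroup (Matrix (Fin 2 × Fin 2) (Fin 2 × Fin 2) K ≃ₗ[K] Matrix (Fin 2 × Fin 2) (Fin 2 × Fin 2) K))
    [Finite X] [Finite (Matrix (Fin 2 × Fin 2) (Fin 2 × Fin 2) K)]
    (y : Multiplicative (Matrix (Fin 2 × Fin 2) (Fin 2 × Fin 2) K) ⋊[linAct X] X)
    (A : SpecialLinearGroup (Fin 2) K) (hy : y.right.1 = tensAct (frob p K 1) (frob p K e) A) :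
    Adm p (p ^ e) (orderOf y) := by
  classical
  letI := Fintype.ofFinite K
  have hP := hp.out
  set q := p ^ e with hq
  have hxpow : ∀ (m : ℕ) (c : K), c * c = 1 →
      quad (A : Matrix (Fin 2) (Fin 2) K).trace ∣ Polynomial.X ^ m - Polynomial.C c → orderOf y.right ∣ m :=
    fun m c hc h => orderOf_dvd_of_pow_eq_one (Subtype.ext (by
      rw [SubmonoidClass.coe_pow, hy, tensAct_pow_cases _ _ frob_unit_sign frob_unit_sign A hc h]; rfl))
  have h20 : (2 : K) ≠ 0 := fun h => by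
    have := (CharP.cast_eq_zero_iff K p 2).1 (by exact_mod_cast h)
    rw [hp3] at this
    norm_num at this
  set t := (A : Matrix (Fin 2) (Fin 2) K).trace with ht
  by_cases h4 : t ^ 2 = 4
  · left
    refine ⟨(orderOf_dvd_right_mul (p := p) y).trans ?_, hp3.le⟩
    rw [sq]
    refine mul_dvd_mul_left _ ?_
    set ε : K := t / 2 with hε
    have hε2 : ε * ε = 1 := by rw [hε]; field_simp; linear_combination h4
    refine hxpow p (ε ^ p) (by rw [← mul_pow, hε2, one_pow]) ?_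
    have h1 : Polynomial.C ε * Polynomial.C ε = (1 : K[X]) := by rw [← C_mul, hε2, C_1]
    have hsq : quad t = (Polynomial.X - Polynomial.C ε) ^ 2 := by
      simp only [quad]
      rw [show Polynomial.C t = 2 * Polynomial.C ε by rw [← map_ofNat Polynomial.C, ← C_mul, hε]; field_simp]
      linear_combination -h1
    rw [hsq, C_pow, ← sub_pow_char]
    exact pow_dvd_pow _ hP.two_le
  set φ := algebraMap K (AlgebraicClosure K)
  haveI : CharP (AlgebraicClosure K) p := charP_of_injective_algebraMap φ.injective p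
  have htQ : t ^ (p ^ (e * 2)) = t := by
    rw [pow_mul, ← hK, Nat.card_eq_fintype_card, FiniteField.pow_card]
  have hQ : p ^ (e * 2) = q ^ 2 := by rw [hq, pow_mul]
  obtain ⟨ρ, hρ⟩ := IsAlgClosed.exists_root (quad (φ t)) (by
    rw [degree_eq_natDegree (quad_monic _).ne_zero, show (quad (φ t)).natDegree = 2 by unfold quad; compute_degree!]
    norm_num)
  replace hρ : ρ ^ 2 - φ t * ρ + 1 = 0 := by simpa [quad] using hρ
  obtain ⟨h0, hi⟩ := isRoot_inv hρ
  have h4' : φ t ^ 2 ≠ 4 := fun h => h4 (φ.injective (by rw [map_pow, h, map_ofNat]))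
  have hne : ρ ≠ ρ⁻¹ := hi ▸ ne_inv hρ h4'
  by_cases hw : ∃ ri rj rk rl : AlgebraicClosure K, (ri = ρ ∨ ri = ρ⁻¹) ∧ (rj = ρ ∨ rj = ρ⁻¹) ∧
      (rk = ρ ∨ rk = ρ⁻¹) ∧ (rl = ρ ∨ rl = ρ⁻¹) ∧
      ri * frob p (AlgebraicClosure K) 1 rj * (frob p (AlgebraicClosure K) e rk * frob p (AlgebraicClosure K) e rl) = 1
  · obtain ⟨ri, rj, rk, rl, hri, hrj, hrk, hrl, heq⟩ := hw
    have hz : ∀ {r : AlgebraicClosure K}, (r = ρ ∨ r = ρ⁻¹) → ∃ s : ℤ, (s = 1 ∨ s = -1) ∧ r = ρ ^ s := by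
      rintro r (rfl | rfl)
      · exact ⟨1, Or.inl rfl, (zpow_one _).symm⟩
      · exact ⟨-1, Or.inr rfl, (_root_.zpow_neg_one _).symm⟩
    obtain ⟨s₁, hs₁, rfl⟩ := hz hri
    obtain ⟨s₂, hs₂, rfl⟩ := hz hrj
    obtain ⟨s₃, hs₃, rfl⟩ := hz hrk
    obtain ⟨s₄, hs₄, rfl⟩ := hz hrl
    let u : (AlgebraicClosure K)ˣ := Units.mk0 ρ h0
    have hu : u ^ (s₁ + 3 * s₂ + (q : ℤ) * (s₃ + s₄)) = 1 := by
      apply Units.ext
      rw [Units.val_zpow_eq_zpow_val, Units.val_one]
      show ρ ^ _ = 1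
      rw [frob_apply, frob_apply, frob_apply, pow_one, hp3, ← zpow_natCast (ρ ^ s₂), ← zpow_natCast (ρ ^ s₃),
        ← zpow_natCast (ρ ^ s₄), ← _root_.zpow_mul, ← _root_.zpow_mul, ← _root_.zpow_mul] at heq
      rw [← heq, ← zpow_add₀ h0, ← zpow_add₀ h0, ← zpow_add₀ h0, hq, hp3]
      congr 1
      push_cast
      ring
    have hoQ : orderOf u ∣ q ^ 2 - 1 ∨ orderOf u ∣ q ^ 2 + 1 := by
      rcases pow_root_cases hρ (show φ t ^ (p ^ (e * 2)) = φ t by rw [← map_pow, htQ]) with h | h <;> rw [hQ] at h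
      · exact Or.inl (orderOf_dvd_of_pow_eq_one (Units.ext (by simpa [u] using h)))
      · exact Or.inr (orderOf_dvd_of_pow_eq_one (Units.ext (by simpa [u] using h)))
    have hq5 : q ^ 2 % 5 = 1 := by
      obtain ⟨k, rfl⟩ := heven
      rw [hq, hp3, ← pow_mul, show (k + k) * 2 = 4 * k by ring, pow_mul, Nat.pow_mod]
      norm_num
    have hq3 : 3 ∣ q := hp3 ▸ dvd_pow_self p he
    have key : ∀ m, orderOf u ∣ m * 2 → orderOf y.right ∣ m := by
      intro m hm
      have h1 : ρ ^ (m * 2) = 1 := by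
        have := congrArg Units.val (orderOf_dvd_iff_pow_eq_one.1 hm)
        simpa [u] using this
      rw [pow_mul, sq_eq_one_iff] at h1
      rcases h1 with h1 | h1
      · exact hxpow m 1 (one_mul _) (quad_dvd_of_pow φ hρ h4 (by simpa using h1) (one_mul _))
      · exact hxpow m (-1) (by ring) (quad_dvd_of_pow φ hρ h4 (by simpa using h1) (by ring))
    have hbound := orderOf_dvd_right_mul (p := p) y
    rcases weight_arith hq3 hq5 hoQ hs₁ hs₂ hs₃ hs₄ (orderOf_dvd_iff_zpow_eq_one.2 hu) with h | h | h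
    · obtain ⟨r, hr⟩ : Odd q := (hP.odd_of_ne_two (by omega)).pow
      exact Or.inr (Or.inl (hbound.trans (mul_dvd_mul_left _ ((key 2 h).trans ⟨r, by omega⟩))))
    · exact Or.inr (Or.inl (hbound.trans (mul_dvd_mul_left _ (key _ (by rwa [mul_comm])))))
    · exact Or.inr (Or.inr (Or.inl (hbound.trans (mul_dvd_mul_left _ (key _ (by rwa [mul_comm]))))))
  · push Not at hw
    have hord : orderOf y = orderOf y.right := by
      refine orderOf_eq_of_no_fixed y fun w hfix => ?_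
      rw [hy] at hfix
      refine tensAct_fixed _ _ φ (frob p _ 1) (frob p _ e) ?_ ?_ A w hfix hρ hne hw <;>
        · intro x
          rw [frob_apply, frob_apply, map_pow]
    obtain ⟨m, hm, c, hc, hdvd⟩ := quad_dvd_half (by omega) htQ h4
    have hd := hxpow m c hc hdvd
    rw [← hord] at hd
    rw [hQ] at hm
    rcases hm with rfl | rfl
    · exact Or.inr (Or.inr (Or.inr (Or.inr ⟨by omega, Or.inl hd⟩)))
    · exact Or.inr (Or.inr (Or.inr (Or.inr ⟨by omega, Or.inr hd⟩)))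

include hp in
/-- Twins of `PSp(4, q)` for even powers `q` of 3. -/
theorem tens_twin {e : ℕ} (he : e ≠ 0) (heven : Even e) (hp3 : p = 3) (hK : Nat.card K = (p ^ e) ^ 2)
    {B : Type*} [Group B] [Finite B] (hB : ∀ b : B, Adm p (p ^ e) (orderOf b))
    (hB' : ∀ n, Adm p (p ^ e) n → ∃ b : B, n ∣ orderOf b) (N : ℕ) :
    ∃ (H : Type) (_ : Group H) (_ : Fintype H), N < Fintype.card H ∧
      Set.range (orderOf : H → ℕ) = Set.range (orderOf : B → ℕ) := by
  classical
  letI := Fintype.ofFinite K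
  haveI : Finite (Matrix (Fin 2 × Fin 2) (Fin 2 × Fin 2) K) := Module.finite_of_finite K
  haveI : Finite (Matrix (Fin 2 × Fin 2) (Fin 2 × Fin 2) K ≃ₗ[K] Matrix (Fin 2 × Fin 2) (Fin 2 × Fin 2) K) :=
    Finite.of_injective _ DFunLike.coe_injective
  have hP := hp.out
  set q := p ^ e with hq
  set τ := frob p K 1 with hτdef
  set σ := frob p K e with hσdef
  let Y := (tensAct τ σ).range
  have hYmem : ∀ A, tensAct τ σ A ∈ Y := fun A => ⟨A, rfl⟩
  obtain ⟨r, hr⟩ : Odd q := (hP.odd_of_ne_two (by omega)).pow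
  obtain ⟨g, hg⟩ := IsCyclic.exists_ofOrder_eq_natCard (α := Kˣ)
  rw [Nat.card_units, hK] at hg
  have hq1 : 1 < q := Nat.one_lt_pow he hP.one_lt
  have torus : ∀ s : SpecialLinearGroup (Fin 2) K, orderOf s ∣ orderOf (⟨tensAct τ σ s, hYmem s⟩ : Y) * 2 := by
    intro s
    refine orderOf_dvd_of_pow_eq_one ?_
    rw [pow_mul]
    refine tensAct_sq_kernel τ σ _ ?_
    rw [map_pow]
    simpa using congrArg Subtype.val (pow_orderOf_eq_one (⟨tensAct τ σ s, hYmem s⟩ : Y))
  have hord : ∀ a b : ℕ, 0 < a → a * b = q ^ 2 - 1 → orderOf (g ^ a) = b := by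
    intro a b ha hab
    rw [orderOf_pow' _ ha.ne', hg, ← hab, Nat.gcd_eq_right (dvd_mul_right _ _), Nat.mul_div_cancel_left _ ha]
  have hfac : q ^ 2 - 1 = (q - 1) * (q + 1) := by rw [mul_comm, ← Nat.sq_sub_sq, one_pow]
  have hpq : ∀ m, (m = q - 1 ∨ m = q + 1) → Nat.Coprime p m := by
    intro m hm
    rw [hP.coprime_iff_not_dvd]
    intro hd
    have hpq : p ∣ q := dvd_pow_self p he
    have h1 : p ∣ 1 := by
      rcases hm with rfl | rfl
      · have := Nat.dvd_sub hpq hd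
        rwa [show q - (q - 1) = 1 by omega] at this
      · exact (Nat.dvd_add_right hpq).1 hd
    exact hP.ne_one (Nat.dvd_one.1 h1)
  have up : ∀ (u : Kˣ) (i j : Fin 2 × Fin 2) (m : ℕ), (m = q - 1 ∨ m = q + 1) → orderOf u = m * 2 →
      (dg u).1 i.1 i.1 * τ ((dg u).1 i.2 i.2) * (σ ((dg u).1 j.1 j.1) * σ ((dg u).1 j.2 j.2)) = 1 →
      ∃ y : Multiplicative (Matrix (Fin 2 × Fin 2) (Fin 2 × Fin 2) K) ⋊[linAct Y] Y, p * m ∣ orderOf y := by
    intro u i j m hm hu hc
    let x : Y := ⟨tensAct τ σ (dg u), hYmem _⟩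
    have hfix : x.1 (Matrix.single i j 1) = Matrix.single i j 1 := tensAct_dg_single τ σ u i j 1 hc.symm
    refine ⟨⟨Multiplicative.ofAdd (Matrix.single i j 1), x⟩, ?_⟩
    rw [orderOf_fixed (p := p) (fun h => by simpa [Matrix.single] using congrFun (congrFun h i) j) hfix]
    refine (hpq m hm).mul_dvd_of_dvd_of_dvd (Nat.dvd_lcm_left _ _) (Dvd.dvd.trans ?_ (Nat.dvd_lcm_right _ _))
    have := torus (dg u)
    rw [orderOf_injective _ dg_injective, hu] at this
    exact Nat.dvd_of_mul_dvd_mul_right (by norm_num) this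
  have hτ3 : ∀ x : K, τ x = x ^ 3 := fun x => by rw [hτdef, frob_apply, pow_one, hp3]
  have hσq : ∀ x : K, σ x = x ^ q := fun x => by rw [hσdef, frob_apply]
  refine exists_twin Y hB hB' ?_ ?_ N
  · intro y
    obtain ⟨A, hA⟩ := y.right.2
    exact adm_of_tensAct he heven hp3 hK Y y A hA.symm
  · intro n hn
    obtain ⟨⟨s, hs⟩, ⟨t, ht⟩⟩ := CfsgLib.KnownSimple.exists_sl2_orderOf (F := K)
    rw [← Nat.card_eq_fintype_card, hK] at hs ht
    rcases hn with ⟨hn, -⟩ | hn | hn | ⟨h, -⟩ | ⟨-, hn | hn⟩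
    · let x : Y := ⟨tensAct τ σ (sl2Shear 1), hYmem _⟩
      let w : Matrix (Fin 2 × Fin 2) (Fin 2 × Fin 2) K := Matrix.single (1, 1) (1, 1) 1
      refine ⟨⟨Multiplicative.ofAdd w, x⟩, hn.trans ?_⟩
      have hU : ∀ k : ℕ, sl2Shear (1 : K) ^ k = sl2Shear (k : K) := by
        intro k
        induction k with
        | zero =>
          rw [pow_zero]
          apply Subtype.ext
          ext i j
          fin_cases i <;> fin_cases j <;> simp [sl2Shear]
        | succ k ih =>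
          rw [pow_succ, ih]
          apply Subtype.ext
          show !![1, ((k : ℕ) : K); 0, 1] * !![1, (1 : K); 0, 1] = !![1, ((k + 1 : ℕ) : K); 0, 1]
          ext i j
          fin_cases i <;> fin_cases j <;>
            simp [Matrix.mul_apply, Fin.sum_univ_two, add_comm]
      have h3K : (3 : K) = 0 := by
        have := CharP.cast_eq_zero K p
        rw [hp3] at this
        exact_mod_cast this
      have hx3 : x ^ p = 1 := Subtype.ext (by
        show tensAct τ σ (sl2Shear 1) ^ p = 1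
        rw [← map_pow, hU, CharP.cast_eq_zero]
        rw [show sl2Shear (0 : K) = 1 from by apply Subtype.ext; ext i j; fin_cases i <;> fin_cases j <;> simp [sl2Shear],
          map_one])
      have hfin := orderOf_eq_prime_pow (p := p) (n := 1)
        (x := (⟨Multiplicative.ofAdd w, x⟩ : Multiplicative (Matrix (Fin 2 × Fin 2) (Fin 2 × Fin 2) K) ⋊[linAct Y] Y))
        ?_ ?_
      · rw [hfin]
      · intro hh
        have h00 := congrArg (fun z => z.left.toAdd (0, 0) (0, 0)) hh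
        rw [pow_one, hp3] at h00
        simp only [pow_left, Finset.sum_range_succ, Finset.sum_range_zero, zero_add, pow_zero, pow_one,
          LinearMap.add_apply, Matrix.add_apply, SemidirectProduct.one_left, toAdd_one, Matrix.zero_apply] at h00
        have e1 : ∀ k : ℕ, tensAct τ σ (sl2Shear (k : K)) w (0, 0) (0, 0) =
            (k : K) * τ (k : K) * (σ (k : K) * σ (k : K)) := fun k => by
          rw [tensAct_single]; simp [sl2Shear]
        have e2 : ((x.1.toLinearMap : Module.End K _) ^ 2) w = tensAct τ σ (sl2Shear ((2 : ℕ) : K)) w := by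
          rw [← hU, map_pow, sq, sq]; rfl
        change w (0, 0) (0, 0) + tensAct τ σ (sl2Shear 1) w (0, 0) (0, 0) +
          ((x.1.toLinearMap : Module.End K _) ^ 2) w (0, 0) (0, 0) = 0 at h00
        rw [e2, e1 2, show tensAct τ σ (sl2Shear (1 : K)) w (0, 0) (0, 0) = (1 : K) * τ 1 * (σ 1 * σ 1) by
          simpa using e1 1] at h00
        simp only [w, map_one, Nat.cast_ofNat, map_ofNat] at h00
        simp [Matrix.single] at h00
        exact one_ne_zero (show (1 : K) = 0 by linear_combination (2 : K) * h00 - 11 * h3K)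
      · rw [← orderOf_dvd_iff_pow_eq_one]
        refine (orderOf_dvd_right_mul (p := p) _).trans ?_
        rw [pow_succ', pow_one]
        exact mul_dvd_mul_left _ (orderOf_dvd_of_pow_eq_one hx3)
    · obtain ⟨y, hy⟩ := up (g ^ (r + 1)) (1, 0) (1, 1) _ (Or.inl rfl) (hord _ _ (by omega) (by
        rw [hfac, show q + 1 = (r + 1) * 2 by omega]; ring)) (by
          have h1 : ((g ^ (r + 1) : Kˣ) : K) ^ ((q - 1) * 2) = 1 := by
            rw [← Units.val_pow_eq_pow_val, ← hord (r + 1) ((q - 1) * 2) (by omega)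
              (by rw [hfac, show q + 1 = (r + 1) * 2 by omega]; ring), pow_orderOf_eq_one, Units.val_one]
          have hv : ((g ^ (r + 1) : Kˣ) : K) ≠ 0 := Units.ne_zero _
          rw [dg_coe]
          generalize ((g ^ (r + 1) : Kˣ)) = v at h1 hv ⊢
          simp [hτ3, hσq, inv_pow]
          obtain ⟨k, hk⟩ : ∃ k, q = k + 1 := ⟨q - 1, by omega⟩
          rw [hk, Nat.add_sub_cancel] at h1
          rw [hk]
          field_simp
          linear_combination -((v : K) ^ 2) * h1)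
      exact ⟨y, hn.trans hy⟩
    · obtain ⟨y, hy⟩ := up (g ^ r) (1, 0) (0, 0) _ (Or.inr rfl) (hord _ _ (by
          rcases Nat.eq_zero_or_pos r with rfl | h
          · omega
          · exact h) (by rw [hfac, show q - 1 = r * 2 by omega]; ring)) (by
          have hr0 : 0 < r := by omega
          have h1 : ((g ^ r : Kˣ) : K) ^ ((q + 1) * 2) = 1 := by
            rw [← Units.val_pow_eq_pow_val, ← hord r ((q + 1) * 2) hr0
              (by rw [hfac, show q - 1 = r * 2 by omega]; ring), pow_orderOf_eq_one, Units.val_one]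
          have hv : ((g ^ r : Kˣ) : K) ≠ 0 := Units.ne_zero _
          rw [dg_coe]
          generalize ((g ^ r : Kˣ)) = v at h1 hv ⊢
          simp [hτ3, hσq, inv_pow]
          field_simp
          linear_combination h1)
      exact ⟨y, hn.trans hy⟩
    · omega
    · refine ⟨SemidirectProduct.inr ⟨_, hYmem s⟩, hn.trans ?_⟩
      rw [orderOf_injective _ SemidirectProduct.inr_injective]
      obtain ⟨k, hk⟩ : Odd (q ^ 2) := Odd.pow ⟨r, hr⟩
      have := hs ▸ torus s
      rw [show q ^ 2 - 1 = (q ^ 2 - 1) / 2 * 2 by omega] at this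
      exact Nat.dvd_of_mul_dvd_mul_right (by norm_num) this
    · refine ⟨SemidirectProduct.inr ⟨_, hYmem t⟩, hn.trans ?_⟩
      rw [orderOf_injective _ SemidirectProduct.inr_injective]
      obtain ⟨k, hk⟩ : Odd (q ^ 2) := Odd.pow ⟨r, hr⟩
      have := ht ▸ torus t
      rw [show q ^ 2 + 1 = (q ^ 2 + 1) / 2 * 2 by omega] at this
      exact Nat.dvd_of_mul_dvd_mul_right (by norm_num) this

end Field

end CfsgLib.SpFourTwins
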